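import Cfsg.Agent.H7.Pres4
set_option Elab.async false
set_option maxRecDepth 100000
set_option maxHeartbeats 0
namespace H8.ON
open H7
universe u

def R_A1 : List (List ℕ) := [[0,0]]
def iv_A1 : List ℕ := [0]
theorem inv_A1 : invOK R_A1 iv_A1 1 = true := by decide +kernel

noncomputable def n_A1_0 : Net := (Net.cons (nat_lit 1) (nat_lit 0x1)
  Net.nil)

noncomputable def NL_A1 : List Net := [n_A1_0]
theorem okL_A1 : okL 2 NL_A1 = true := by decide +kernel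
noncomputable def N_A1 : ℕ → Net := nth NL_A1
theorem ok_A1 : ∀ a, (N_A1 a).ok 2 = true := ok_nth okL_A1

def ps_A1 : List (List ℕ × List ℕ) := [([0,0],[])]

theorem pl_A1 : ∀ j < 1, planeOK N_A1 ps_A1 (plN 2 1 j) = true := allLt_iff.1 (by decide +kernel)

theorem rels_A1 : Rels (pms N_A1) R_A1 := rels_of_planes ok_A1 (by decide +kernel) (iv := iv_A1) pl_A1 (by decide +kernel)

def hs_A1 : List (List ℕ × List (List ℕ) × ℕ) := []
theorem hh_A1 : ∀ h ∈ hs_A1, UI.{u} R_A1 h.1 h.2.1 h.2.2 :=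
  List.forall_mem_nil _

theorem e_A1_0 : erun 2 0 N_A1 R_A1 iv_A1 1 hs_A1 (stK (ones 2) (mkK 2 (ones 2) [0]))
  [.grow [0] 1 (ones 2), .rel 0 0]
  (bit 0) (mkK 2 (bit 0) []) = true := by decide +kernel
theorem r_A1_0 : Run.{u} 2 N_A1 R_A1 0 (bit 0) (mkK 2 (bit 0) []) (ones 2) (mkK 2 (ones 2) [0]) := (Run.of_cert ok_A1 (by decide +kernel) inv_A1 hh_A1 e_A1_0 0)

theorem ui_A1 : UI.{u} R_A1 [0] (sing []) 2 :=
  UI.of_run (kp := 0) (O := (ones 2)) ok_A1 (by decide +kernel) rels_A1 r_A1_0 (by decide +kernel)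

theorem ub_A1 : UB.{u} R_A1 [0] 2 :=
  (ui_A1.mul (UB.nil _) (by decide +kernel) (by decide +kernel)).le (by decide +kernel)

def R_A2 : List (List ℕ) := [[0,0],[1,1],[0,1,0,1,0,1]]
def iv_A2 : List ℕ := [0,1]
theorem inv_A2 : invOK R_A2 iv_A2 2 = true := by decide +kernel

noncomputable def n_A2_0 : Net := (Net.cons (nat_lit 1) (nat_lit 0x1)
  (Net.cons (nat_lit 2) (nat_lit 0x1)
  (Net.cons (nat_lit 1) (nat_lit 0x1)
  Net.nil)))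

noncomputable def n_A2_1 : Net := (Net.cons (nat_lit 1) (nat_lit 0x1)
  Net.nil)

noncomputable def NL_A2 : List Net := [n_A2_0,n_A2_1]
theorem okL_A2 : okL 3 NL_A2 = true := by decide +kernel
noncomputable def N_A2 : ℕ → Net := nth NL_A2
theorem ok_A2 : ∀ a, (N_A2 a).ok 3 = true := ok_nth okL_A2

def ps_A2 : List (List ℕ × List ℕ) := [([0,0],[]),([1,1],[]),([0,1,0],[1,0,1])]

theorem pl_A2 : ∀ j < 2, planeOK N_A2 ps_A2 (plN 3 2 j) = true := allLt_iff.1 (by decide +kernel)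

theorem rels_A2 : Rels (pms N_A2) R_A2 := rels_of_planes ok_A2 (by decide +kernel) (iv := iv_A2) pl_A2 (by decide +kernel)

theorem imp_A2_A1_1c : impCert R_A2 [1] R_A1 [(1,0)] = true := by decide +kernel
theorem imp_A2_A1_1 : Imp.{u} R_A2 [1] R_A1 := Imp.of_cert imp_A2_A1_1c

theorem imp_A2_A1_2c : impCert R_A2 [0] R_A1 [(0,0)] = true := by decide +kernel
theorem imp_A2_A1_2 : Imp.{u} R_A2 [0] R_A1 := Imp.of_cert imp_A2_A1_2c

def hs_A2 : List (List ℕ × List (List ℕ) × ℕ) := [([1],[],2),([0],[],2)]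
theorem hh_A2 : ∀ h ∈ hs_A2, UI.{u} R_A2 h.1 h.2.1 h.2.2 :=
  List.forall_mem_cons.2 ⟨ub_A1.ren imp_A2_A1_1 (by decide +kernel) (by decide +kernel),
    List.forall_mem_cons.2 ⟨ub_A1.ren imp_A2_A1_2 (by decide +kernel) (by decide +kernel),
    List.forall_mem_nil _⟩⟩

theorem e_A2_0 : erun 3 0 N_A2 R_A2 iv_A2 2 hs_A2 (stK (ones 3) (mkK 3 (ones 3) [0,1]))
  [.orb [1] [] 2 0 0 1, .orb [0] [] 2 1 0 1, .rel 2 1]
  (bit 0) (mkK 3 (bit 0) [0]) = true := by decide +kernel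
theorem r_A2_0 : Run.{u} 3 N_A2 R_A2 0 (bit 0) (mkK 3 (bit 0) [0]) (ones 3) (mkK 3 (ones 3) [0,1]) := (Run.of_cert ok_A2 (by decide +kernel) inv_A2 hh_A2 e_A2_0 0)

theorem ui_A2 : UI.{u} R_A2 [0,1] (sing [0]) 3 :=
  UI.of_run (kp := 0) (O := (ones 3)) ok_A2 (by decide +kernel) rels_A2 r_A2_0 (by decide +kernel)

theorem ub_A2 : UB.{u} R_A2 [0,1] 6 :=
  (ui_A2.mul (UI.ren (S := [0]) (W := []) ub_A1 imp_A2_A1_2 (by decide +kernel) rfl) (by decide +kernel) (by decide +kernel)).le (by decide +kernel)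

def R_A3 : List (List ℕ) := [[0,0],[1,1],[2,2],[0,1,0,1,0,1],[0,2,0,2],[1,2,1,2,1,2]]
def iv_A3 : List ℕ := [0,1,2]
theorem inv_A3 : invOK R_A3 iv_A3 3 = true := by decide +kernel

noncomputable def n_A3_0 : Net := (Net.cons (nat_lit 1) (nat_lit 0x4)
  Net.nil)

noncomputable def n_A3_1 : Net := (Net.cons (nat_lit 1) (nat_lit 0x4)
  (Net.cons (nat_lit 2) (nat_lit 0x2)
  (Net.cons (nat_lit 1) (nat_lit 0x4)
  Net.nil)))

noncomputable def n_A3_2 : Net := (Net.cons (nat_lit 1) (nat_lit 0x1)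
  Net.nil)

noncomputable def NL_A3 : List Net := [n_A3_0,n_A3_1,n_A3_2]
theorem okL_A3 : okL 4 NL_A3 = true := by decide +kernel
noncomputable def N_A3 : ℕ → Net := nth NL_A3
theorem ok_A3 : ∀ a, (N_A3 a).ok 4 = true := ok_nth okL_A3

def ps_A3 : List (List ℕ × List ℕ) := [([0,0],[]),([1,1],[]),([2,2],[]),([0,1,0],[1,0,1]),([0,2],[2,0]),([1,2,1],[2,1,2])]

theorem pl_A3 : ∀ j < 2, planeOK N_A3 ps_A3 (plN 4 2 j) = true := allLt_iff.1 (by decide +kernel)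

theorem rels_A3 : Rels (pms N_A3) R_A3 := rels_of_planes ok_A3 (by decide +kernel) (iv := iv_A3) pl_A3 (by decide +kernel)

theorem imp_A3_A2_3c : impCert R_A3 [1,2] R_A2 [(1,0),(2,0),(5,0)] = true := by decide +kernel
theorem imp_A3_A2_3 : Imp.{u} R_A3 [1,2] R_A2 := Imp.of_cert imp_A3_A2_3c

theorem imp_A3_A2_4c : impCert R_A3 [0,1] R_A2 [(0,0),(1,0),(3,0)] = true := by decide +kernel
theorem imp_A3_A2_4 : Imp.{u} R_A3 [0,1] R_A2 := Imp.of_cert imp_A3_A2_4c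

def hs_A3 : List (List ℕ × List (List ℕ) × ℕ) := [([1,2],[[1]],3),([0,1],[[0]],3)]
theorem hh_A3 : ∀ h ∈ hs_A3, UI.{u} R_A3 h.1 h.2.1 h.2.2 :=
  List.forall_mem_cons.2 ⟨ui_A2.ren imp_A3_A2_3 (by decide +kernel) (by decide +kernel),
    List.forall_mem_cons.2 ⟨ui_A2.ren imp_A3_A2_4 (by decide +kernel) (by decide +kernel),
    List.forall_mem_nil _⟩⟩

theorem e_A3_0 : erun 4 0 N_A3 R_A3 iv_A3 3 hs_A3 (stK (ones 4) (mkK 4 (ones 4) [0,1,2]))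
  [.orb [1,2] [[1]] 3 0 0 2, .rel 4 0, .orb [0,1] [[0]] 3 1 1 1, .rel 4 1]
  (bit 0) (mkK 4 (bit 0) [0,1]) = true := by decide +kernel
theorem r_A3_0 : Run.{u} 4 N_A3 R_A3 0 (bit 0) (mkK 4 (bit 0) [0,1]) (ones 4) (mkK 4 (ones 4) [0,1,2]) := (Run.of_cert ok_A3 (by decide +kernel) inv_A3 hh_A3 e_A3_0 0)

theorem ui_A3 : UI.{u} R_A3 [0,1,2] (sing [0,1]) 4 :=
  UI.of_run (kp := 0) (O := (ones 4)) ok_A3 (by decide +kernel) rels_A3 r_A3_0 (by decide +kernel)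

theorem ub_A3 : UB.{u} R_A3 [0,1,2] 24 :=
  (ui_A3.mul (UI.ren (S := [0,1]) (W := []) ub_A2 imp_A3_A2_4 (by decide +kernel) rfl) (by decide +kernel) (by decide +kernel)).le (by decide +kernel)

def R_A3x : List (List ℕ) := [[0,0],[1,1],[2,2],[3,3],[0,1,0,1,0,1],[0,2,0,2],[0,3,0,3],[1,2,1,2,1,2],[1,3,1,3],[2,3,2,3]]
def iv_A3x : List ℕ := [0,1,2,3]
theorem inv_A3x : invOK R_A3x iv_A3x 4 = true := by decide +kernel

noncomputable def n_A3x_0 : Net := (Net.cons (nat_lit 1) (nat_lit 0x40)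
  (Net.cons (nat_lit 2) (nat_lit 0x20)
  (Net.cons (nat_lit 4) (nat_lit 0x8)
  (Net.cons (nat_lit 2) (nat_lit 0x20)
  Net.nil))))

noncomputable def n_A3x_1 : Net := (Net.cons (nat_lit 2) (nat_lit 0x12)
  Net.nil)

noncomputable def n_A3x_2 : Net := (Net.cons (nat_lit 1) (nat_lit 0x1)
  (Net.cons (nat_lit 2) (nat_lit 0x10)
  (Net.cons (nat_lit 4) (nat_lit 0x4)
  (Net.cons (nat_lit 2) (nat_lit 0x10)
  Net.nil))))

noncomputable def n_A3x_3 : Net := (Net.cons (nat_lit 1) (nat_lit 0x50)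
  (Net.cons (nat_lit 2) (nat_lit 0x11)
  (Net.cons (nat_lit 4) (nat_lit 0xa)
  (Net.cons (nat_lit 1) (nat_lit 0x50)
  Net.nil))))

noncomputable def NL_A3x : List Net := [n_A3x_0,n_A3x_1,n_A3x_2,n_A3x_3]
theorem okL_A3x : okL 8 NL_A3x = true := by decide +kernel
noncomputable def N_A3x : ℕ → Net := nth NL_A3x
theorem ok_A3x : ∀ a, (N_A3x a).ok 8 = true := ok_nth okL_A3x

def ps_A3x : List (List ℕ × List ℕ) := [([0,0],[]),([1,1],[]),([2,2],[]),([3,3],[]),([0,1,0],[1,0,1]),([0,2],[2,0]),([0,3],[3,0]),([1,2,1],[2,1,2]),([1,3],[3,1]),([2,3],[3,2])]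

theorem pl_A3x : ∀ j < 3, planeOK N_A3x ps_A3x (plN 8 3 j) = true := allLt_iff.1 (by decide +kernel)

theorem rels_A3x : Rels (pms N_A3x) R_A3x := rels_of_planes ok_A3x (by decide +kernel) (iv := iv_A3x) pl_A3x (by decide +kernel)

theorem imp_A3x_A3_5c : impCert R_A3x [0,1,2] R_A3 [(0,0),(1,0),(2,0),(4,0),(5,0),(7,0)] = true := by decide +kernel
theorem imp_A3x_A3_5 : Imp.{u} R_A3x [0,1,2] R_A3 := Imp.of_cert imp_A3x_A3_5c

def hs_A3x : List (List ℕ × List (List ℕ) × ℕ) := [([0,1,2],[[0],[1]],4)]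
theorem hh_A3x : ∀ h ∈ hs_A3x, UI.{u} R_A3x h.1 h.2.1 h.2.2 :=
  List.forall_mem_cons.2 ⟨ui_A3.ren imp_A3x_A3_5 (by decide +kernel) (by decide +kernel),
    List.forall_mem_nil _⟩

theorem e_A3x_0 : erun 8 0 N_A3x R_A3x iv_A3x 4 hs_A3x (stK (ones 8) (mkK 8 (ones 8) [0,1,2,3]))
  [.orb [0,1,2] [[0],[1]] 4 0 0 3, .grow [3] 1 (bit 0), .rel 3 0, .rel 6 0, .rel 8 0, .orb [0,1,2] [[0],[1]] 4 2 0 3, .rel 9 1, .rel 8 1, .rel 6 1]
  (bit 0) (mkK 8 (bit 0) [0,1]) = true := by decide +kernel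
theorem r_A3x_0 : Run.{u} 8 N_A3x R_A3x 0 (bit 0) (mkK 8 (bit 0) [0,1]) (ones 8) (mkK 8 (ones 8) [0,1,2,3]) := (Run.of_cert ok_A3x (by decide +kernel) inv_A3x hh_A3x e_A3x_0 0)

theorem ui_A3x : UI.{u} R_A3x [0,1,2,3] (sing [0,1]) 8 :=
  UI.of_run (kp := 0) (O := (ones 8)) ok_A3x (by decide +kernel) rels_A3x r_A3x_0 (by decide +kernel)

theorem imp_A3x_A2_6c : impCert R_A3x [0,1] R_A2 [(0,0),(1,0),(4,0)] = true := by decide +kernel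
theorem imp_A3x_A2_6 : Imp.{u} R_A3x [0,1] R_A2 := Imp.of_cert imp_A3x_A2_6c

theorem ub_A3x : UB.{u} R_A3x [0,1,2,3] 48 :=
  (ui_A3x.mul (UI.ren (S := [0,1]) (W := []) ub_A2 imp_A3x_A2_6 (by decide +kernel) rfl) (by decide +kernel) (by decide +kernel)).le (by decide +kernel)

def R_D : List (List ℕ) := [[0,0],[1,1],[0,1,0,1,0,1,0,1,0,1,0,1,0,1,0,1]]
def iv_D : List ℕ := [0,1]
theorem inv_D : invOK R_D iv_D 2 = true := by decide +kernel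

noncomputable def n_D_0 : Net := (Net.cons (nat_lit 1) (nat_lit 0x44)
  (Net.cons (nat_lit 2) (nat_lit 0x32)
  (Net.cons (nat_lit 4) (nat_lit 0x4)
  (Net.cons (nat_lit 2) (nat_lit 0x10)
  (Net.cons (nat_lit 1) (nat_lit 0x44)
  Net.nil)))))

noncomputable def n_D_1 : Net := (Net.cons (nat_lit 1) (nat_lit 0x55)
  Net.nil)

noncomputable def NL_D : List Net := [n_D_0,n_D_1]
theorem okL_D : okL 8 NL_D = true := by decide +kernel
noncomputable def N_D : ℕ → Net := nth NL_D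
theorem ok_D : ∀ a, (N_D a).ok 8 = true := ok_nth okL_D

def ps_D : List (List ℕ × List ℕ) := [([0,0],[]),([1,1],[]),([0,1,0,1,0,1,0,1],[1,0,1,0,1,0,1,0])]

theorem pl_D : ∀ j < 3, planeOK N_D ps_D (plN 8 3 j) = true := allLt_iff.1 (by decide +kernel)

theorem rels_D : Rels (pms N_D) R_D := rels_of_planes ok_D (by decide +kernel) (iv := iv_D) pl_D (by decide +kernel)

theorem imp_D_A1_7c : impCert R_D [1] R_A1 [(1,0)] = true := by decide +kernel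
theorem imp_D_A1_7 : Imp.{u} R_D [1] R_A1 := Imp.of_cert imp_D_A1_7c

theorem imp_D_A1_8c : impCert R_D [0] R_A1 [(0,0)] = true := by decide +kernel
theorem imp_D_A1_8 : Imp.{u} R_D [0] R_A1 := Imp.of_cert imp_D_A1_8c

def hs_D : List (List ℕ × List (List ℕ) × ℕ) := [([1],[],2),([0],[],2)]
theorem hh_D : ∀ h ∈ hs_D, UI.{u} R_D h.1 h.2.1 h.2.2 :=
  List.forall_mem_cons.2 ⟨ub_A1.ren imp_D_A1_7 (by decide +kernel) (by decide +kernel),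
    List.forall_mem_cons.2 ⟨ub_A1.ren imp_D_A1_8 (by decide +kernel) (by decide +kernel),
    List.forall_mem_nil _⟩⟩

theorem e_D_0 : erun 8 0 N_D R_D iv_D 2 hs_D (stK (ones 8) (mkK 8 (ones 8) [0,1]))
  [.orb [1] [] 2 0 0 1, .orb [0] [] 2 1 0 1, .orb [1] [] 2 2 0 1, .orb [0] [] 2 3 0 1, .orb [1] [] 2 4 0 1, .orb [0] [] 2 5 0 1, .orb [1] [] 2 6 0 1, .rel 2 0]
  (bit 0) (mkK 8 (bit 0) [0]) = true := by decide +kernel
theorem r_D_0 : Run.{u} 8 N_D R_D 0 (bit 0) (mkK 8 (bit 0) [0]) (ones 8) (mkK 8 (ones 8) [0,1]) := (Run.of_cert ok_D (by decide +kernel) inv_D hh_D e_D_0 0)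

theorem ui_D : UI.{u} R_D [0,1] (sing [0]) 8 :=
  UI.of_run (kp := 0) (O := (ones 8)) ok_D (by decide +kernel) rels_D r_D_0 (by decide +kernel)

theorem ub_D : UB.{u} R_D [0,1] 16 :=
  (ui_D.mul (UI.ren (S := [0]) (W := []) ub_A1 imp_D_A1_8 (by decide +kernel) rfl) (by decide +kernel) (by decide +kernel)).le (by decide +kernel)

def R_B : List (List ℕ) := [[0,0],[1,1],[2,2],[3,3],[4,4],[0,1,0,1,0,1],[0,2,0,2],[0,3,0,3],[0,4,0,4],[1,2,1,2,1,2],[1,3,1,3],[1,4,1,4],[2,3,2,3,2,3,2,3,2,3,2,3,2,3,2,3],[2,4,2,4],[3,4,3,4],[0,4,3,2,3,2,3,2,3,2],[4,0,2,3,2,3,2,3,2,3]]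
def iv_B : List ℕ := [0,1,2,3,4]
theorem inv_B : invOK R_B iv_B 5 = true := by decide +kernel

noncomputable def n_B_0 : Net := (Net.cons (nat_lit 1) (nat_lit 0x5000500)
  (Net.cons (nat_lit 2) (nat_lit 0x1312000)
  (Net.cons (nat_lit 4) (nat_lit 0xf0902)
  (Net.cons (nat_lit 8) (nat_lit 0x60062)
  (Net.cons (nat_lit 16) (nat_lit 0x60)
  (Net.cons (nat_lit 8) (nat_lit 0x60)
  (Net.cons (nat_lit 4) (nat_lit 0x60002)
  (Net.cons (nat_lit 2) (nat_lit 0x1312000)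
  (Net.cons (nat_lit 1) (nat_lit 0x1000500)
  Net.nil)))))))))

noncomputable def n_B_1 : Net := (Net.cons (nat_lit 1) (nat_lit 0x4444500)
  (Net.cons (nat_lit 2) (nat_lit 0x3201320)
  (Net.cons (nat_lit 4) (nat_lit 0xf0708)
  (Net.cons (nat_lit 8) (nat_lit 0xa00e0)
  (Net.cons (nat_lit 16) (nat_lit 0x80)
  (Net.cons (nat_lit 8) (nat_lit 0x80)
  (Net.cons (nat_lit 4) (nat_lit 0xa0600)
  (Net.cons (nat_lit 2) (nat_lit 0x1320)
  (Net.cons (nat_lit 1) (nat_lit 0x4444500)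
  Net.nil)))))))))

noncomputable def n_B_2 : Net := (Net.cons (nat_lit 1) (nat_lit 0x5504040)
  (Net.cons (nat_lit 2) (nat_lit 0x2302012)
  (Net.cons (nat_lit 4) (nat_lit 0x70a00)
  (Net.cons (nat_lit 8) (nat_lit 0x800d0)
  (Net.cons (nat_lit 16) (nat_lit 0x50)
  (Net.cons (nat_lit 8) (nat_lit 0x50)
  (Net.cons (nat_lit 4) (nat_lit 0x50800)
  (Net.cons (nat_lit 2) (nat_lit 0x2202000)
  (Net.cons (nat_lit 1) (nat_lit 0x1504040)
  Net.nil)))))))))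

noncomputable def n_B_3 : Net := (Net.cons (nat_lit 1) (nat_lit 0x1110145)
  (Net.cons (nat_lit 2) (nat_lit 0x1121210)
  (Net.cons (nat_lit 4) (nat_lit 0xf0c0f)
  (Net.cons (nat_lit 8) (nat_lit 0x30033)
  (Net.cons (nat_lit 16) (nat_lit 0x30)
  (Net.cons (nat_lit 8) (nat_lit 0x30)
  (Net.cons (nat_lit 4) (nat_lit 0x30003)
  (Net.cons (nat_lit 2) (nat_lit 0x2212120)
  (Net.cons (nat_lit 1) (nat_lit 0x4445410)
  Net.nil)))))))))

noncomputable def n_B_4 : Net := (Net.cons (nat_lit 1) (nat_lit 0x5151551)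
  (Net.cons (nat_lit 2) (nat_lit 0x2203103)
  (Net.cons (nat_lit 4) (nat_lit 0xf060f)
  (Net.cons (nat_lit 8) (nat_lit 0x90099)
  (Net.cons (nat_lit 16) (nat_lit 0x90)
  (Net.cons (nat_lit 8) (nat_lit 0x90)
  (Net.cons (nat_lit 4) (nat_lit 0x90009)
  (Net.cons (nat_lit 2) (nat_lit 0x2230130)
  (Net.cons (nat_lit 1) (nat_lit 0x404004)
  Net.nil)))))))))

noncomputable def NL_B : List Net := [n_B_0,n_B_1,n_B_2,n_B_3,n_B_4]
theorem okL_B : okL 28 NL_B = true := by decide +kernel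
noncomputable def N_B : ℕ → Net := nth NL_B
theorem ok_B : ∀ a, (N_B a).ok 28 = true := ok_nth okL_B

def ps_B : List (List ℕ × List ℕ) := [([0,0],[]),([1,1],[]),([2,2],[]),([3,3],[]),([4,4],[]),([0,1,0],[1,0,1]),([0,2],[2,0]),([0,3],[3,0]),([0,4],[4,0]),([1,2,1],[2,1,2]),([1,3],[3,1]),([1,4],[4,1]),([2,3,2,3,2,3,2,3],[3,2,3,2,3,2,3,2]),([2,4],[4,2]),([3,4],[4,3]),([0,4,3,2,3],[2,3,2,3,2]),([4,0,2,3,2],[3,2,3,2,3])]

theorem pl_B : ∀ j < 5, planeOK N_B ps_B (plN 28 5 j) = true := allLt_iff.1 (by decide +kernel)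

theorem rels_B : Rels (pms N_B) R_B := rels_of_planes ok_B (by decide +kernel) (iv := iv_B) pl_B (by decide +kernel)

theorem lb_9 : LB N_A3x [[0],[1],[2]] [0,1,3] 24 :=
  (LB.of_chain (kp := 0) ok_A3x (by decide +kernel) [(0,3,[[0],[1],[2]]),(1,2,[[0],[1]]),(3,1,[[0]])] (by decide +kernel)).cat
    (rels_A3x.inv inv_A3x) (by decide +kernel) (c := [[0],[2],[4],[0],[2],[0]]) (by decide +kernel)

theorem ui_A3x_10 : UI.{u} R_A3x [0,1,2,3] [[0],[1],[2]] 2 :=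
  UI.of_UB ub_A3x rels_A3x lb_9 (by decide +kernel) (by decide +kernel)

theorem imp_B_A3x_11c : impCert R_B [0,1,2,4] R_A3x [(0,0),(1,0),(2,0),(4,0),(5,0),(6,0),(8,0),(9,0),(11,0),(13,0)] = true := by decide +kernel
theorem imp_B_A3x_11 : Imp.{u} R_B [0,1,2,4] R_A3x := Imp.of_cert imp_B_A3x_11c

theorem imp_B_D_12c : impCert R_B [2,3] R_D [(2,0),(3,0),(12,0)] = true := by decide +kernel
theorem imp_B_D_12 : Imp.{u} R_B [2,3] R_D := Imp.of_cert imp_B_D_12c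

theorem lb_13 : LB N_A3x [[0],[2,3]] [0,3] 4 :=
  (LB.of_chain (kp := 0) ok_A3x (by decide +kernel) [(0,1,[[0],[2,3]]),(3,1,[[0]])] (by decide +kernel)).cat
    (rels_A3x.inv inv_A3x) (by decide +kernel) (c := [[0],[2],[0]]) (by decide +kernel)

theorem ui_A3x_14 : UI.{u} R_A3x [0,1,2,3] [[0],[2,3]] 12 :=
  UI.of_UB ub_A3x rels_A3x lb_13 (by decide +kernel) (by decide +kernel)

theorem lb_15 : LB N_A3x [[1,3],[1,2,0]] [0] 8 :=
  (LB.of_chain (kp := 0) ok_A3x (by decide +kernel) [(0,2,[[1,3],[1,2,0]])] (by decide +kernel)).cat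
    (rels_A3x.inv inv_A3x) (by decide +kernel) (c := [[0],[2]]) (by decide +kernel)

theorem ui_A3x_16 : UI.{u} R_A3x [0,1,2,3] [[1,3],[1,2,0]] 6 :=
  UI.of_UB ub_A3x rels_A3x lb_15 (by decide +kernel) (by decide +kernel)

def hs_B : List (List ℕ × List (List ℕ) × ℕ) := [([0,1,2,4],[[0],[1],[2]],2),([2,3],[[2]],8),([0,1,2,4],[[0],[2,4]],12),([0,1,2,4],[[0],[1]],8),([0,1,2,4],[[1,4],[1,2,0]],6)]
theorem hh_B : ∀ h ∈ hs_B, UI.{u} R_B h.1 h.2.1 h.2.2 :=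
  List.forall_mem_cons.2 ⟨ui_A3x_10.ren imp_B_A3x_11 (by decide +kernel) (by decide +kernel),
    List.forall_mem_cons.2 ⟨ui_D.ren imp_B_D_12 (by decide +kernel) (by decide +kernel),
    List.forall_mem_cons.2 ⟨ui_A3x_14.ren imp_B_A3x_11 (by decide +kernel) (by decide +kernel),
    List.forall_mem_cons.2 ⟨ui_A3x.ren imp_B_A3x_11 (by decide +kernel) (by decide +kernel),
    List.forall_mem_cons.2 ⟨ui_A3x_16.ren imp_B_A3x_11 (by decide +kernel) (by decide +kernel),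
    List.forall_mem_nil _⟩⟩⟩⟩⟩

theorem e_B_0 : erun 28 2 N_B R_B iv_B 5 hs_B (stK (ones 28) (mkK 28 (ones 28) [0,1,2,3,4]))
  [.orb [0,1,2,4] [[0],[1],[2]] 2 0 0 1, .orb [2,3] [[2]] 8 0 0 4, .rel 7 0, .rel 10 0, .rel 15 2, .rel 15 8, .rel 16 0, .rel 4 0, .rel 6 0, .rel 7 0, .rel 10 0, .rel 13 1, .rel 14 1, .rel 15 0, .orb [0,1,2,4] [[0],[2,4]] 12 6 1 2, .orb [0,1,2,4] [[0],[1]] 8 1 1 2, .rel 10 1, .rel 7 1, .orb [2,3] [[2]] 8 5 2 3, .rel 15 2, .rel 15 4, .orb [2,3] [[2]] 8 8 2 3, .rel 7 0, .rel 14 1, .rel 15 0, .rel 15 2, .rel 15 4, .rel 16 0, .rel 16 1, .rel 10 0, .orb [0,1,2,4] [[1,4],[1,2,0]] 6 19 1 1, .rel 10 1]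
  (bit 0) (mkK 28 (bit 0) [0,1,2]) = true := by decide +kernel
theorem r_B_0 : Run.{u} 28 N_B R_B 0 (bit 0) (mkK 28 (bit 0) [0,1,2]) (ones 28) (mkK 28 (ones 28) [0,1,2,3,4]) := (Run.of_cert ok_B (by decide +kernel) inv_B hh_B e_B_0 0)

theorem ui_B : UI.{u} R_B [0,1,2,3,4] (sing [0,1,2]) 28 :=
  UI.of_run (kp := 2) (O := (ones 28)) ok_B (by decide +kernel) rels_B r_B_0 (by decide +kernel)

theorem imp_B_A3_17c : impCert R_B [0,1,2] R_A3 [(0,0),(1,0),(2,0),(5,0),(6,0),(9,0)] = true := by decide +kernel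
theorem imp_B_A3_17 : Imp.{u} R_B [0,1,2] R_A3 := Imp.of_cert imp_B_A3_17c

theorem ub_B : UB.{u} R_B [0,1,2,3,4] 672 :=
  (ui_B.mul (UI.ren (S := [0,1,2]) (W := []) ub_A3 imp_B_A3_17 (by decide +kernel) rfl) (by decide +kernel) (by decide +kernel)).le (by decide +kernel)

def R_B0 : List (List ℕ) := [[0,0],[1,1],[2,2],[3,3],[4,4],[0,1,0,1,0,1],[0,2,0,2],[0,3,0,3],[0,4,0,4],[1,2,1,2,1,2],[1,3,1,3],[1,4,1,4],[2,3,2,3,2,3,2,3,2,3,2,3,2,3,2,3],[2,4,2,4],[3,4,3,4],[0,4,3,2,3,2,3,2,3,2]]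
def iv_B0 : List ℕ := [0,1,2,3,4]
theorem inv_B0 : invOK R_B0 iv_B0 5 = true := by decide +kernel

def R_T1 : List (List ℕ) := [[0,0],[1,1],[2,2],[3,3],[5,4],[4,5],[0,1,0,1,0,1],[0,2,0,2],[0,3,0,3],[1,2,1,2,1,2],[1,3,1,3],[2,3,2,3],[0,3,5,5],[4,1,2,4,2,1,4,1,2,4,2]]
def iv_T1 : List ℕ := [0,1,2,3,5,4]
theorem inv_T1 : invOK R_T1 iv_T1 6 = true := by decide +kernel

noncomputable def n_T1f_0 : Net := (Net.cons (nat_lit 1) (nat_lit 0x451155515505000)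
  (Net.cons (nat_lit 2) (nat_lit 0x312201311122000)
  (Net.cons (nat_lit 4) (nat_lit 0xb070c010b0100)
  (Net.cons (nat_lit 8) (nat_lit 0x300d9004700d0)
  (Net.cons (nat_lit 16) (nat_lit 0xffe0000de80)
  (Net.cons (nat_lit 32) (nat_lit 0x12ed000)
  (Net.cons (nat_lit 16) (nat_lit 0x12e0000d000)
  (Net.cons (nat_lit 8) (nat_lit 0x8005100de0080)
  (Net.cons (nat_lit 4) (nat_lit 0x30f0008020900)
  (Net.cons (nat_lit 2) (nat_lit 0x132000210022000)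
  (Net.cons (nat_lit 1) (nat_lit 0x11155004105000)
  Net.nil)))))))))))

noncomputable def n_T1f_1 : Net := (Net.cons (nat_lit 1) (nat_lit 0x141010114451440)
  (Net.cons (nat_lit 2) (nat_lit 0x222031031010010)
  (Net.cons (nat_lit 4) (nat_lit 0xc09070103000c)
  (Net.cons (nat_lit 8) (nat_lit 0xb007e00ae0020)
  (Net.cons (nat_lit 16) (nat_lit 0x1970000de10)
  (Net.cons (nat_lit 32) (nat_lit 0x1078000)
  (Net.cons (nat_lit 16) (nat_lit 0x10700008000)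
  (Net.cons (nat_lit 8) (nat_lit 0x16008e0000)
  (Net.cons (nat_lit 4) (nat_lit 0x8090701030000)
  (Net.cons (nat_lit 2) (nat_lit 0x222031031010010)
  (Net.cons (nat_lit 1) (nat_lit 0x141010114451440)
  Net.nil)))))))))))

noncomputable def n_T1f_2 : Net := (Net.cons (nat_lit 1) (nat_lit 0x450045400005010)
  (Net.cons (nat_lit 2) (nat_lit 0x21023020010)
  (Net.cons (nat_lit 4) (nat_lit 0xd0e010103020c)
  (Net.cons (nat_lit 8) (nat_lit 0xf003000a30020)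
  (Net.cons (nat_lit 16) (nat_lit 0x4f00005f10)
  (Net.cons (nat_lit 32) (nat_lit 0x4f1000)
  (Net.cons (nat_lit 16) (nat_lit 0x4f00001000)
  (Net.cons (nat_lit 8) (nat_lit 0x1000030000)
  (Net.cons (nat_lit 4) (nat_lit 0xd020000030200)
  (Net.cons (nat_lit 2) (nat_lit 0x21023020010)
  (Net.cons (nat_lit 1) (nat_lit 0x10045400005010)
  Net.nil)))))))))))

noncomputable def n_T1f_3 : Net := (Net.cons (nat_lit 1) (nat_lit 0x105044004055505)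
  (Net.cons (nat_lit 2) (nat_lit 0x1333313230)
  (Net.cons (nat_lit 4) (nat_lit 0xe060c09010900)
  (Net.cons (nat_lit 8) (nat_lit 0xf003900ff0000)
  (Net.cons (nat_lit 16) (nat_lit 0x1c600003e00)
  (Net.cons (nat_lit 32) (nat_lit 0x1c62000)
  (Net.cons (nat_lit 16) (nat_lit 0x1c600002000)
  (Net.cons (nat_lit 8) (nat_lit 0x21001e0000)
  (Net.cons (nat_lit 4) (nat_lit 0xd090a00010000)
  (Net.cons (nat_lit 2) (nat_lit 0x211000000000)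
  (Net.cons (nat_lit 1) (nat_lit 0x10511010000000)
  Net.nil)))))))))))

noncomputable def n_T1f_4 : Net := (Net.cons (nat_lit 1) (nat_lit 0x140401155055554)
  (Net.cons (nat_lit 2) (nat_lit 0x322020102013103)
  (Net.cons (nat_lit 4) (nat_lit 0xe070b0f0d0d04)
  (Net.cons (nat_lit 8) (nat_lit 0xd00b0001c0074)
  (Net.cons (nat_lit 16) (nat_lit 0x7770000eac0)
  (Net.cons (nat_lit 32) (nat_lit 0x7e000)
  (Net.cons (nat_lit 16) (nat_lit 0x70000e000)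
  (Net.cons (nat_lit 8) (nat_lit 0x2007000220040)
  (Net.cons (nat_lit 4) (nat_lit 0x50a0006080604)
  (Net.cons (nat_lit 2) (nat_lit 0x23301001030300)
  (Net.cons (nat_lit 1) (nat_lit 0x51154111141440)
  Net.nil)))))))))))

noncomputable def n_T1f_5 : Net := Net.rev n_T1f_4

noncomputable def NL_T1f : List Net := [n_T1f_0,n_T1f_1,n_T1f_2,n_T1f_3,n_T1f_4,n_T1f_5]
theorem okL_T1f : okL 60 NL_T1f = true := by decide +kernel
noncomputable def N_T1f : ℕ → Net := nth NL_T1f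
theorem ok_T1f : ∀ a, (N_T1f a).ok 60 = true := ok_nth okL_T1f

def ps_T1f : List (List ℕ × List ℕ) := [([0,0],[]),([1,1],[]),([2,2],[]),([3,3],[]),([5,4],[]),([4,5],[]),([0,1,0],[1,0,1]),([0,2],[2,0]),([0,3],[3,0]),([1,2,1],[2,1,2]),([1,3],[3,1]),([2,3],[3,2]),([0,3],[4,4]),([4,1,2,4,2,1],[2,5,2,1,5])]

theorem pl_T1f : ∀ j < 6, planeOK N_T1f ps_T1f (plN 60 6 j) = true := allLt_iff.1 (by decide +kernel)

theorem rels_T1f : Rels (pms N_T1f) R_T1 := rels_of_planes ok_T1f (by decide +kernel) (iv := iv_T1) pl_T1f (by decide +kernel)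

noncomputable def n_T1_0 : Net := (Net.cons (nat_lit 1) (nat_lit 0x14445440)
  (Net.cons (nat_lit 2) (nat_lit 0x3120210)
  (Net.cons (nat_lit 4) (nat_lit 0x1080604)
  (Net.cons (nat_lit 8) (nat_lit 0x1d0060)
  (Net.cons (nat_lit 16) (nat_lit 0x140)
  (Net.cons (nat_lit 8) (nat_lit 0x10040)
  (Net.cons (nat_lit 4) (nat_lit 0x1080600)
  (Net.cons (nat_lit 2) (nat_lit 0x3100210)
  (Net.cons (nat_lit 1) (nat_lit 0x4440400)
  Net.nil)))))))))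

noncomputable def n_T1_1 : Net := (Net.cons (nat_lit 1) (nat_lit 0x5140044)
  (Net.cons (nat_lit 2) (nat_lit 0x3232302)
  (Net.cons (nat_lit 4) (nat_lit 0x20a0a00)
  (Net.cons (nat_lit 8) (nat_lit 0x1b00e4)
  (Net.cons (nat_lit 16) (nat_lit 0x13c0)
  (Net.cons (nat_lit 8) (nat_lit 0x1300c0)
  (Net.cons (nat_lit 4) (nat_lit 0xa0a00)
  (Net.cons (nat_lit 2) (nat_lit 0x2232300)
  (Net.cons (nat_lit 1) (nat_lit 0x5140004)
  Net.nil)))))))))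

noncomputable def n_T1_2 : Net := (Net.cons (nat_lit 1) (nat_lit 0x10400410)
  (Net.cons (nat_lit 2) (nat_lit 0x2001312)
  (Net.cons (nat_lit 4) (nat_lit 0x50204)
  (Net.cons (nat_lit 8) (nat_lit 0x200f0)
  (Net.cons (nat_lit 16) (nat_lit 0x240)
  (Net.cons (nat_lit 8) (nat_lit 0x20040)
  (Net.cons (nat_lit 4) (nat_lit 0x40200)
  (Net.cons (nat_lit 2) (nat_lit 0x1210)
  (Net.cons (nat_lit 1) (nat_lit 0x410)
  Net.nil)))))))))

noncomputable def n_T1_3 : Net := Net.nil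

noncomputable def n_T1_4 : Net := (Net.cons (nat_lit 1) (nat_lit 0x11505451)
  (Net.cons (nat_lit 2) (nat_lit 0x2112022)
  (Net.cons (nat_lit 4) (nat_lit 0x2040c04)
  (Net.cons (nat_lit 8) (nat_lit 0x3d0012)
  (Net.cons (nat_lit 16) (nat_lit 0x2100)
  (Net.cons (nat_lit 8) (nat_lit 0x210000)
  (Net.cons (nat_lit 4) (nat_lit 0xc0000)
  (Net.cons (nat_lit 2) (nat_lit 0x2102002)
  (Net.cons (nat_lit 1) (nat_lit 0x510410)
  Net.nil)))))))))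

noncomputable def n_T1_5 : Net := Net.rev n_T1_4

noncomputable def NL_T1 : List Net := [n_T1_0,n_T1_1,n_T1_2,n_T1_3,n_T1_4,n_T1_5]
theorem okL_T1 : okL 30 NL_T1 = true := by decide +kernel
noncomputable def N_T1 : ℕ → Net := nth NL_T1
theorem ok_T1 : ∀ a, (N_T1 a).ok 30 = true := ok_nth okL_T1

def ps_T1 : List (List ℕ × List ℕ) := [([0,0],[]),([1,1],[]),([2,2],[]),([3,3],[]),([5,4],[]),([4,5],[]),([0,1,0],[1,0,1]),([0,2],[2,0]),([0,3],[3,0]),([1,2,1],[2,1,2]),([1,3],[3,1]),([2,3],[3,2]),([0,3],[4,4]),([4,1,2,4,2,1],[2,5,2,1,5])]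

theorem pl_T1 : ∀ j < 5, planeOK N_T1 ps_T1 (plN 30 5 j) = true := allLt_iff.1 (by decide +kernel)

theorem rels_T1 : Rels (pms N_T1) R_T1 := rels_of_planes ok_T1 (by decide +kernel) (iv := iv_T1) pl_T1 (by decide +kernel)

def hs_T1 : List (List ℕ × List (List ℕ) × ℕ) := []
theorem hh_T1 : ∀ h ∈ hs_T1, UI.{u} R_T1 h.1 h.2.1 h.2.2 :=
  List.forall_mem_nil _

theorem e_T1_0 : erun 30 2 N_T1 R_T1 iv_T1 6 hs_T1 (stK (ones 30) (mkK 30 (ones 30) [0,1,2,3,4,5]))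
  [.grow [5] 1 (bit 0), .rel 4 1, .rel 12 3, .rel 4 1, .grow [0,1,2,3] 3 (nat_lit 0x2), .rel 0 0, .rel 1 0, .rel 2 0, .rel 7 1, .rel 6 1, .rel 9 1, .rel 7 1, .grow [5] 1 (bit 4), .rel 4 1, .grow [5] 1 (bit 3), .rel 4 1, .grow [0,1,2,3] 2 (nat_lit 0x200), .rel 0 0, .rel 1 0, .rel 2 0, .rel 7 1, .grow [5] 1 (bit 21), .rel 4 1, .grow [0,1,2,3] 1 (nat_lit 0x4000000), .rel 1 0, .rel 2 0, .grow [0,1,2,3] 3 (nat_lit 0x40), .rel 0 0, .rel 1 0, .rel 2 0, .rel 7 0, .rel 6 1, .loc [.dfn 0 1, .imp 5 1 0, .imp 5 0 1, .ded 12 1 1 [4,2,1], .dfn 0 3, .imp 2 3 1, .ded 7 1 30 [0,10,9], .ded 11 1 3 [11,7,13], .imp 5 9 3, .ded 12 3 3 [9,14,16], .exp 9], .rel 4 1, .rel 13 3, .rel 4 0, .loc [.imp 5 1 0, .imp 5 0 1, .imp 1 2 1, .imp 2 3 1, .imp 2 5 2, .dfn 5 5, .imp 0 12 13, .imp 5 13 5, .ded 12 1 30 [10,14,12], .imp 1 8 3, .dfn 4 8, .imp 1 0 0, .imp 2 0 0, .ded 13 10 31 [20,19,7,1,24,22,3,4,8,11],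 .ded 13 5 31 [20,19,7,1,24,3,4,8,11,26], .imp 2 18 12, .ded 11 1 31 [27,17,30], .ded 10 0 18 [32,29,33], .exp 17], .rel 6 0, .rel 9 1, .rel 12 1, .rel 10 1, .rel 11 1, .rel 8 1, .rel 10 1, .rel 12 2, .rel 4 1, .rel 13 0, .rel 4 0, .rel 12 2, .rel 4 1, .rel 13 5, .rel 13 8, .rel 6 0, .rel 12 3, .rel 4 1, .rel 13 10, .rel 9 0, .loc [.dfn 0 1, .imp 5 1 0, .imp 5 0 1, .ded 12 1 1 [4,2,1], .dfn 3 2, .imp 1 2 1, .ded 10 0 30 [6,10,9], .imp 5 9 3, .dfn 1 4, .imp 0 4 2, .ded 6 0 31 [12,0,10,18,17], .ded 8 1 4 [19,9,21], .imp 5 6 4, .imp 1 8 3, .dfn 3 10, .imp 0 10 5, .imp 2 10 4, .ded 11 0 32 [22,32,29], .imp 5 5 12, .ded 12 2 12 [36,30,29], .imp 3 13 13, .imp 0 13 12, .ded 12 2 33 [38,42,40], .imp 2 11 8, .imp 1 9 17, .imp 2 17 13, .imp 2 6 14, .ded 13 9 14 [52,25,17,35,45,50,48,15,26,46], .exp 27], .rel 4 0, .loc [.dfn 2 25, .dfn 3 25, .imp 0 22 25, .dfn 2 22,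 .ded 7 0 30 [0,4,7], .imp 1 22 14, .imp 4 14 11, .imp 2 11 8, .imp 4 8 18, .imp 2 18 12, .imp 1 12 21, .imp 4 21 26, .imp 1 26 29, .imp 2 29 28, .ded 13 3 28 [26,24,22,20,18,16,14,12,10,7], .dfn 3 27, .imp 1 27 25, .ded 10 0 31 [2,32,31], .dfn 3 30, .ded 11 0 31 [2,1,37], .ded 12 2 28 [29,8,37], .imp 4 26 21, .imp 2 21 21, .imp 2 26 26, .ded 13 6 29 [24,46,22,44,42,25,27,41,38,35], .imp 0 23 27, .dfn 3 23, .ded 8 0 33 [30,50,53], .ded 12 2 29 [49,55,52], .exp 28], .rel 4 1, .rel 13 9, .rel 4 0, .rel 13 5, .rel 1 0, .rel 9 1, .rel 13 3, .rel 4 0, .rel 7 1, .loc [.dfn 3 27, .imp 0 27 23, .imp 5 23 28, .ded 12 2 28 [4,2,1], .dfn 0 30, .ded 8 1 23 [2,1,9], .imp 5 29 23, .ded 12 3 30 [9,10,12], .dfn 0 28, .ded 12 1 29 [14,6,17], .dfn 3 28, .ded 8 0 29 [19,16,21], .imp 1 28 28, .ded 10 0 33 [20,24,21], .imp 1 26 29, .ded 6 0 26 [29,23,27,22,28], .exp 15], .rel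 12 1, .rel 10 1, .rel 11 1, .rel 12 0, .rel 6 0, .loc [.dfn 0 3, .imp 5 3 9, .imp 5 9 3, .ded 12 1 3 [4,2,1], .dfn 1 30, .imp 1 3 8, .ded 10 1 8 [10,7,9], .imp 2 3 1, .dfn 0 31, .imp 0 8 16, .ded 6 1 16 [18,10,1,9,17], .ded 8 1 16 [18,13,17], .imp 5 8 17, .ded 12 2 17 [24,19,23], .imp 2 20 16, .imp 1 17 9, .imp 2 9 9, .imp 1 1 2, .imp 4 2 7, .imp 2 7 15, .ded 13 9 15 [38,36,34,14,3,32,30,27,20,28], .exp 20], .rel 4 0, .loc [.dfn 3 5, .dfn 0 30, .imp 0 5 10, .ded 8 1 10 [4,1,3], .dfn 2 30, .imp 2 5 2, .ded 11 1 2 [10,1,9], .imp 5 7 2, .dfn 1 31, .imp 1 10 19, .ded 10 1 19 [18,7,17], .dfn 2 31, .ded 7 0 32 [8,3,23], .ded 12 3 34 [24,12,14], .imp 2 22 23, .imp 4 23 29, .imp 2 29 28, .imp 1 28 28, .imp 4 28 23, .imp 1 23 15, .imp 2 15 7, .ded 13 0 33 [16,23,27,40,38,36,34,32,30,28], .imp 0 19 24, .ded 12 3 24 [44,21,43], .exp 23], .rel 4 1, .loc [.dfn 3 25, .dfn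 0 30, .imp 0 25 22, .ded 8 1 22 [4,1,3], .imp 5 24 22, .ded 12 3 30 [3,6,8], .dfn 1 30, .imp 1 25 27, .ded 10 1 27 [14,1,13], .imp 2 27 25, .ded 11 0 30 [0,18,17], .imp 0 27 23, .imp 5 23 28, .ded 12 2 28 [24,22,17], .imp 2 28 29, .imp 1 29 26, .imp 4 26 21, .imp 2 16 20, .imp 1 20 24, .imp 1 21 12, .imp 2 12 18, .ded 13 3 18 [40,38,32,30,28,27,20,11,36,34], .exp 21], .rel 4 0, .rel 12 3, .rel 12 1, .rel 4 1, .rel 10 1, .rel 11 1, .rel 12 0, .rel 12 2, .rel 6 1, .rel 9 1, .rel 13 0, .rel 13 3, .rel 13 6, .rel 4 1, .rel 4 0, .rel 10 1, .rel 12 3, .rel 12 1, .rel 13 0, .rel 13 3, .rel 13 9, .rel 4 0, .rel 8 1, .rel 10 1, .rel 12 3, .rel 4 1, .rel 8 1, .rel 12 3, .rel 13 0, .rel 13 3]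
  (bit 0) (mkK 30 (bit 0) [0,1,2,3]) = true := by decide +kernel
theorem r_T1_0 : Run.{u} 30 N_T1 R_T1 0 (bit 0) (mkK 30 (bit 0) [0,1,2,3]) (ones 30) (mkK 30 (ones 30) [0,1,2,3,4,5]) := (Run.of_cert ok_T1 (by decide +kernel) inv_T1 hh_T1 e_T1_0 0)

theorem ui_T1 : UI.{u} R_T1 [0,1,2,3,4,5] (sing [0,1,2,3]) 30 :=
  UI.of_run (kp := 2) (O := (ones 30)) ok_T1 (by decide +kernel) rels_T1 r_T1_0 (by decide +kernel)

theorem imp_T1_A3x_18c : impCert R_T1 [0,1,2,3] R_A3x [(0,0),(1,0),(2,0),(3,0),(6,0),(7,0),(8,0),(9,0),(10,0),(11,0)] = true := by decide +kernel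
theorem imp_T1_A3x_18 : Imp.{u} R_T1 [0,1,2,3] R_A3x := Imp.of_cert imp_T1_A3x_18c

theorem ub_T1 : UB.{u} R_T1 [0,1,2,3,4,5] 1440 :=
  (ui_T1.mul (UI.ren (S := [0,1,2,3]) (W := []) ub_A3x imp_T1_A3x_18 (by decide +kernel) rfl) (by decide +kernel) (by decide +kernel)).le (by decide +kernel)

def R_T1m : List (List ℕ) := [[0,0],[1,1],[2,2],[3,3],[5,4],[4,5],[0,1,0,1],[0,2,0,2],[0,3,0,3],[1,2,1,2,1,2],[1,3,1,3],[2,3,2,3,2,3],[0,3,5,5],[4,2,1,4,1,2,4,2,1,4,1]]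
def iv_T1m : List ℕ := [0,1,2,3,5,4]
theorem inv_T1m : invOK R_T1m iv_T1m 6 = true := by decide +kernel

noncomputable def n_T1mf_0 : Net := (Net.cons (nat_lit 1) (nat_lit 0x105514100455505)
  (Net.cons (nat_lit 2) (nat_lit 0x13231021330)
  (Net.cons (nat_lit 4) (nat_lit 0xe0e0b03070900)
  (Net.cons (nat_lit 8) (nat_lit 0xf000700ff0000)
  (Net.cons (nat_lit 16) (nat_lit 0x4f800007800)
  (Net.cons (nat_lit 32) (nat_lit 0x4f80000)
  (Net.cons (nat_lit 16) (nat_lit 0x4f800000000)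
  (Net.cons (nat_lit 8) (nat_lit 0x400780000)
  (Net.cons (nat_lit 4) (nat_lit 0xd01030b070000)
  (Net.cons (nat_lit 2) (nat_lit 0x23132000000)
  (Net.cons (nat_lit 1) (nat_lit 0x10040001000000)
  Net.nil)))))))))))

noncomputable def n_T1mf_1 : Net := (Net.cons (nat_lit 1) (nat_lit 0x450414451400040)
  (Net.cons (nat_lit 2) (nat_lit 0x103003001210)
  (Net.cons (nat_lit 4) (nat_lit 0xd090c060d020c)
  (Net.cons (nat_lit 8) (nat_lit 0xf000000010020)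
  (Net.cons (nat_lit 16) (nat_lit 0x4ef0000d310)
  (Net.cons (nat_lit 32) (nat_lit 0x4ef0000)
  (Net.cons (nat_lit 16) (nat_lit 0x4ef00000000)
  (Net.cons (nat_lit 8) (nat_lit 0x10000)
  (Net.cons (nat_lit 4) (nat_lit 0xd000006010200)
  (Net.cons (nat_lit 2) (nat_lit 0x103001001210)
  (Net.cons (nat_lit 1) (nat_lit 0x10414051000040)
  Net.nil)))))))))))

noncomputable def n_T1mf_2 : Net := (Net.cons (nat_lit 1) (nat_lit 0x50140010145110)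
  (Net.cons (nat_lit 2) (nat_lit 0x131102011301010)
  (Net.cons (nat_lit 4) (nat_lit 0x50e0a020d0a0c)
  (Net.cons (nat_lit 8) (nat_lit 0xe009f00990070)
  (Net.cons (nat_lit 16) (nat_lit 0x2c10000ed40)
  (Net.cons (nat_lit 32) (nat_lit 0x2016000)
  (Net.cons (nat_lit 16) (nat_lit 0x20100006000)
  (Net.cons (nat_lit 8) (nat_lit 0xa100890040)
  (Net.cons (nat_lit 4) (nat_lit 0x40c0800050200)
  (Net.cons (nat_lit 2) (nat_lit 0x131102011301010)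
  (Net.cons (nat_lit 1) (nat_lit 0x50140010145110)
  Net.nil)))))))))))

noncomputable def n_T1mf_3 : Net := (Net.cons (nat_lit 1) (nat_lit 0x450145554545000)
  (Net.cons (nat_lit 2) (nat_lit 0x313222323030020)
  (Net.cons (nat_lit 4) (nat_lit 0xb060c000d0b02)
  (Net.cons (nat_lit 8) (nat_lit 0x300c0005700c2)
  (Net.cons (nat_lit 16) (nat_lit 0xeff0000fbc0)
  (Net.cons (nat_lit 32) (nat_lit 0x3be000)
  (Net.cons (nat_lit 16) (nat_lit 0x3b0000e000)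
  (Net.cons (nat_lit 8) (nat_lit 0x800c000db0040)
  (Net.cons (nat_lit 4) (nat_lit 0x30e0408040202)
  (Net.cons (nat_lit 2) (nat_lit 0x133022323012000)
  (Net.cons (nat_lit 1) (nat_lit 0x10144140545000)
  Net.nil)))))))))))

noncomputable def n_T1mf_4 : Net := (Net.cons (nat_lit 1) (nat_lit 0x40440551014104)
  (Net.cons (nat_lit 2) (nat_lit 0x220233101213323)
  (Net.cons (nat_lit 4) (nat_lit 0xe0702000a0d00)
  (Net.cons (nat_lit 8) (nat_lit 0xd00f2005700f0)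
  (Net.cons (nat_lit 16) (nat_lit 0x7fd0000af80)
  (Net.cons (nat_lit 32) (nat_lit 0x2da000)
  (Net.cons (nat_lit 16) (nat_lit 0x2d00008000)
  (Net.cons (nat_lit 8) (nat_lit 0x200d0002c0000)
  (Net.cons (nat_lit 4) (nat_lit 0xc0a0200020500)
  (Net.cons (nat_lit 2) (nat_lit 0x10322202022000)
  (Net.cons (nat_lit 1) (nat_lit 0x10151544440100)
  Net.nil)))))))))))

noncomputable def n_T1mf_5 : Net := Net.rev n_T1mf_4

noncomputable def NL_T1mf : List Net := [n_T1mf_0,n_T1mf_1,n_T1mf_2,n_T1mf_3,n_T1mf_4,n_T1mf_5]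
theorem okL_T1mf : okL 60 NL_T1mf = true := by decide +kernel
noncomputable def N_T1mf : ℕ → Net := nth NL_T1mf
theorem ok_T1mf : ∀ a, (N_T1mf a).ok 60 = true := ok_nth okL_T1mf

def ps_T1mf : List (List ℕ × List ℕ) := [([0,0],[]),([1,1],[]),([2,2],[]),([3,3],[]),([5,4],[]),([4,5],[]),([0,1],[1,0]),([0,2],[2,0]),([0,3],[3,0]),([1,2,1],[2,1,2]),([1,3],[3,1]),([2,3,2],[3,2,3]),([0,3],[4,4]),([4,2,1,4,1,2],[1,5,1,2,5])]

theorem pl_T1mf : ∀ j < 6, planeOK N_T1mf ps_T1mf (plN 60 6 j) = true := allLt_iff.1 (by decide +kernel)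

theorem rels_T1mf : Rels (pms N_T1mf) R_T1m := rels_of_planes ok_T1mf (by decide +kernel) (iv := iv_T1m) pl_T1mf (by decide +kernel)

noncomputable def n_T1m_0 : Net := Net.nil

noncomputable def n_T1m_1 : Net := (Net.cons (nat_lit 1) (nat_lit 0x10455414)
  (Net.cons (nat_lit 2) (nat_lit 0x2021222)
  (Net.cons (nat_lit 4) (nat_lit 0x204)
  (Net.cons (nat_lit 8) (nat_lit 0xf00a0)
  (Net.cons (nat_lit 16) (nat_lit 0xf00)
  (Net.cons (nat_lit 8) (nat_lit 0xf0000)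
  (Net.cons (nat_lit 4) (nat_lit 0x800)
  (Net.cons (nat_lit 2) (nat_lit 0x2000)
  (Net.cons (nat_lit 1) (nat_lit 0x55414)
  Net.nil)))))))))

noncomputable def n_T1m_2 : Net := (Net.cons (nat_lit 1) (nat_lit 0x5401100)
  (Net.cons (nat_lit 2) (nat_lit 0x3310112)
  (Net.cons (nat_lit 4) (nat_lit 0x2030104)
  (Net.cons (nat_lit 8) (nat_lit 0x800f0)
  (Net.cons (nat_lit 16) (nat_lit 0xc0)
  (Net.cons (nat_lit 8) (nat_lit 0xc0)
  (Net.cons (nat_lit 4) (nat_lit 0x100)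
  (Net.cons (nat_lit 2) (nat_lit 0x2310110)
  (Net.cons (nat_lit 1) (nat_lit 0x5401000)
  Net.nil)))))))))

noncomputable def n_T1m_3 : Net := (Net.cons (nat_lit 1) (nat_lit 0x14411500)
  (Net.cons (nat_lit 2) (nat_lit 0x2012100)
  (Net.cons (nat_lit 4) (nat_lit 0x10e0908)
  (Net.cons (nat_lit 8) (nat_lit 0x3c00d0)
  (Net.cons (nat_lit 16) (nat_lit 0x2080)
  (Net.cons (nat_lit 8) (nat_lit 0x200080)
  (Net.cons (nat_lit 4) (nat_lit 0x10e0900)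
  (Net.cons (nat_lit 2) (nat_lit 0x2002100)
  (Net.cons (nat_lit 1) (nat_lit 0x4410400)
  Net.nil)))))))))

noncomputable def n_T1m_4 : Net := (Net.cons (nat_lit 1) (nat_lit 0x4011415)
  (Net.cons (nat_lit 2) (nat_lit 0x1313230)
  (Net.cons (nat_lit 4) (nat_lit 0x30e030c)
  (Net.cons (nat_lit 8) (nat_lit 0xf0078)
  (Net.cons (nat_lit 16) (nat_lit 0x120)
  (Net.cons (nat_lit 8) (nat_lit 0x10000)
  (Net.cons (nat_lit 4) (nat_lit 0x20e0e00)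
  (Net.cons (nat_lit 2) (nat_lit 0x1203130)
  (Net.cons (nat_lit 1) (nat_lit 0x15045040)
  Net.nil)))))))))

noncomputable def n_T1m_5 : Net := Net.rev n_T1m_4

noncomputable def NL_T1m : List Net := [n_T1m_0,n_T1m_1,n_T1m_2,n_T1m_3,n_T1m_4,n_T1m_5]
theorem okL_T1m : okL 30 NL_T1m = true := by decide +kernel
noncomputable def N_T1m : ℕ → Net := nth NL_T1m
theorem ok_T1m : ∀ a, (N_T1m a).ok 30 = true := ok_nth okL_T1m

def ps_T1m : List (List ℕ × List ℕ) := [([0,0],[]),([1,1],[]),([2,2],[]),([3,3],[]),([5,4],[]),([4,5],[]),([0,1],[1,0]),([0,2],[2,0]),([0,3],[3,0]),([1,2,1],[2,1,2]),([1,3],[3,1]),([2,3,2],[3,2,3]),([0,3],[4,4]),([4,2,1,4,1,2],[1,5,1,2,5])]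

theorem pl_T1m : ∀ j < 5, planeOK N_T1m ps_T1m (plN 30 5 j) = true := allLt_iff.1 (by decide +kernel)

theorem rels_T1m : Rels (pms N_T1m) R_T1m := rels_of_planes ok_T1m (by decide +kernel) (iv := iv_T1m) pl_T1m (by decide +kernel)

def hs_T1m : List (List ℕ × List (List ℕ) × ℕ) := []
theorem hh_T1m : ∀ h ∈ hs_T1m, UI.{u} R_T1m h.1 h.2.1 h.2.2 :=
  List.forall_mem_nil _

theorem e_T1m_0 : erun 30 2 N_T1m R_T1m iv_T1m 6 hs_T1m (stK (ones 30) (mkK 30 (ones 30) [0,1,2,3,4,5]))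
  [.grow [5] 1 (bit 0), .rel 4 1, .rel 12 3, .rel 4 1, .grow [3,2,1,0] 3 (nat_lit 0x2), .rel 1 0, .rel 2 0, .rel 3 0, .rel 10 0, .rel 9 0, .rel 11 0, .rel 10 0, .grow [5] 1 (bit 2), .rel 4 1, .grow [5] 1 (bit 7), .rel 4 1, .grow [3,2,1,0] 2 (nat_lit 0x20), .rel 1 0, .rel 2 0, .rel 3 0, .rel 10 0, .grow [5] 1 (bit 21), .rel 4 1, .grow [3,2,1,0] 1 (nat_lit 0x4000000), .rel 1 0, .rel 2 0, .grow [3,2,1,0] 3 (nat_lit 0x100), .rel 1 0, .rel 2 0, .rel 3 0, .rel 10 1, .rel 11 0, .loc [.dfn 0 1, .imp 5 1 0, .imp 5 0 1, .ded 12 1 1 [4,2,1], .dfn 0 2, .imp 1 2 1, .ded 6 1 30 [0,10,9], .ded 10 1 2 [11,7,13], .imp 5 5 2, .ded 12 3 2 [9,14,16], .exp 9], .rel 4 1, .rel 13 3, .rel 4 0, .loc [.imp 5 5 2, .dfn 1 5, .imp 2 5 12, .dfn 2 30, .imp 2 4 2, .imp 1 2 1, .imp 4 1 0, .imp 1 0 0, .imp 2 0 0, .imp 4 0 1, .ded 13 6 31 [6,2,1,11,18,16,14,12,10,8], .imp 1 12 16, .dfn 1 31,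 .ded 9 1 16 [22,4,3,7,25], .imp 1 4 10, .imp 2 10 6, .imp 4 6 16, .full 13 0 16 [32,30,28,20,25,26,32,30,28,20,25], .ded 2 0 16 [34,26], .exp 18], .rel 9 0, .rel 11 1, .rel 13 6, .rel 4 0, .loc [.imp 5 1 0, .imp 5 0 1, .imp 1 2 1, .imp 2 3 1, .imp 2 4 2, .dfn 4 4, .imp 5 4 12, .imp 3 12 13, .ded 12 0 13 [14,12,11], .imp 1 6 3, .dfn 5 6, .imp 2 0 0, .imp 1 0 0, .ded 13 10 30 [10,9,5,1,24,22,3,6,18,21], .ded 13 5 30 [10,9,5,1,24,3,6,18,21,26], .ded 7 1 13 [17,29,16], .exp 15], .rel 9 0, .rel 11 1, .rel 12 0, .rel 7 0, .rel 8 0, .rel 12 3, .rel 4 1, .rel 6 0, .rel 7 0, .rel 12 3, .rel 12 2, .rel 13 3, .rel 4 1, .rel 13 10, .rel 9 1, .loc [.dfn 0 3, .imp 5 8 7, .imp 3 7 3, .dfn 1 30, .imp 1 3 6, .ded 6 0 6 [8,1,7], .dfn 2 30, .imp 2 3 1, .ded 7 0 1 [14,1,13], .imp 5 1 0, .imp 5 0 1, .ded 12 1 1 [20,18,17], .dfn 3 30, .ded 11 0 7 [5,15,23,12,25], .dfn 3 31, .ded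 10 0 33 [24,7,29], .imp 5 6 15, .ded 12 2 15 [32,11,29], .imp 3 16 15, .imp 0 15 15, .ded 12 2 34 [34,38,36], .imp 1 10 4, .imp 2 4 2, .imp 4 2 5, .imp 2 5 12, .imp 1 12 16, .imp 1 8 17, .ded 13 9 17 [52,3,27,31,41,50,48,46,44,42], .exp 27], .rel 4 0, .loc [.dfn 1 25, .dfn 0 25, .dfn 0 30, .ded 6 1 31 [2,1,5], .dfn 3 30, .imp 3 25 22, .ded 10 0 22 [10,1,9], .imp 2 22 17, .imp 4 17 10, .imp 1 10 4, .imp 4 4 13, .imp 1 13 15, .imp 2 15 21, .imp 4 21 26, .imp 2 26 29, .imp 1 29 28, .ded 13 3 28 [30,28,26,24,22,20,18,16,14,13], .dfn 2 31, .imp 2 25 27, .ded 7 0 27 [36,3,35], .dfn 3 32, .ded 8 0 33 [8,5,41], .ded 12 2 28 [33,43,40], .imp 4 26 21, .imp 1 21 21, .imp 1 26 26, .ded 13 6 29 [28,50,26,48,46,29,31,45,6,35], .imp 3 23 27, .ded 12 2 29 [53,38,54], .exp 28], .rel 4 1, .rel 13 9, .rel 4 0, .rel 13 5, .rel 2 0, .rel 9 0, .rel 13 3, .rel 4 0, .rel 10 0, .loc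 [.dfn 0 28, .imp 2 28 28, .ded 7 1 30 [0,2,1], .dfn 3 28, .imp 5 29 23, .imp 5 23 28, .ded 12 0 31 [6,10,8], .ded 8 1 30 [0,7,13], .imp 2 26 29, .ded 11 1 26 [17,14,5,15,16], .exp 9], .rel 12 0, .rel 7 0, .rel 12 1, .rel 11 1, .rel 6 0, .loc [.dfn 0 2, .imp 1 2 1, .imp 5 2 5, .imp 5 5 2, .ded 12 1 2 [6,4,1], .imp 2 3 1, .dfn 0 4, .imp 2 4 2, .ded 7 1 30 [0,14,13], .imp 5 9 3, .imp 1 18 9, .dfn 0 11, .imp 3 11 4, .ded 8 1 31 [12,24,23], .ded 11 0 11 [25,15,9,17,27], .imp 5 4 12, .ded 12 2 12 [30,13,27], .imp 1 19 11, .imp 2 12 5, .imp 1 5 5, .ded 13 9 18 [21,19,11,2,5,38,36,33,28,34], .exp 20], .rel 4 0, .loc [.dfn 0 14, .dfn 1 30, .imp 1 14 7, .ded 6 0 7 [4,1,3], .imp 5 9 3, .imp 3 3 7, .ded 12 3 31 [6,10,8], .dfn 2 30, .imp 2 14 20, .ded 7 0 20 [16,1,15], .imp 1 22 23, .imp 4 23 29, .imp 1 29 28, .imp 2 28 28, .imp 4 28 23, .imp 2 23 18, .imp 1 18 9, .ded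 13 0 32 [14,3,13,32,30,28,26,24,22,20], .dfn 3 32, .imp 3 20 24, .ded 8 0 24 [38,19,37], .ded 12 3 24 [41,36,35], .exp 21], .rel 4 1, .loc [.dfn 0 27, .imp 5 29 23, .imp 3 23 27, .ded 12 3 30 [0,4,2], .imp 3 29 28, .imp 0 28 28, .ded 12 3 28 [10,8,6], .dfn 1 30, .imp 1 27 25, .ded 6 0 25 [16,1,15], .imp 1 28 29, .imp 2 29 26, .imp 4 26 21, .imp 5 24 22, .imp 3 22 25, .ded 12 3 31 [18,28,26], .imp 1 11 19, .imp 2 19 24, .imp 2 21 15, .imp 1 15 13, .ded 13 3 13 [38,36,24,22,20,13,15,31,34,32], .exp 20], .rel 4 0, .rel 12 3, .rel 12 0, .rel 4 1, .rel 6 0, .rel 7 0, .rel 8 0, .rel 12 3, .rel 12 1, .rel 12 2, .rel 11 0, .rel 13 0, .rel 13 1, .rel 4 1, .rel 6 0, .rel 10 1, .rel 12 3, .rel 12 0, .rel 9 0, .rel 13 0, .rel 7 0, .rel 8 0, .rel 12 3, .rel 12 2, .rel 4 1]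
  (bit 0) (mkK 30 (bit 0) [3,2,1,0]) = true := by decide +kernel
theorem r_T1m_0 : Run.{u} 30 N_T1m R_T1m 0 (bit 0) (mkK 30 (bit 0) [3,2,1,0]) (ones 30) (mkK 30 (ones 30) [0,1,2,3,4,5]) := (Run.of_cert ok_T1m (by decide +kernel) inv_T1m hh_T1m e_T1m_0 0)

theorem ui_T1m : UI.{u} R_T1m [0,1,2,3,4,5] (sing [3,2,1,0]) 30 :=
  UI.of_run (kp := 2) (O := (ones 30)) ok_T1m (by decide +kernel) rels_T1m r_T1m_0 (by decide +kernel)

theorem imp_T1m_A3x_19c : impCert R_T1m [3,2,1,0] R_A3x [(3,0),(2,0),(1,0),(0,0),(11,1),(10,1),(8,1),(9,1),(7,1),(6,1)] = true := by decide +kernel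
theorem imp_T1m_A3x_19 : Imp.{u} R_T1m [3,2,1,0] R_A3x := Imp.of_cert imp_T1m_A3x_19c

theorem ub_T1m : UB.{u} R_T1m [0,1,2,3,4,5] 1440 :=
  (ui_T1m.mul (UI.ren (S := [3,2,1,0]) (W := []) ub_A3x imp_T1m_A3x_19 (by decide +kernel) rfl) (by decide +kernel) (by decide +kernel)).le (by decide +kernel)

end H8.ON
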