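import Cfsg.Agent.H8.ON.C0
set_option Elab.async false
set_option maxRecDepth 100000
set_option maxHeartbeats 0
namespace H8.ON
open H7
universe u

theorem lb_136 : LB N_T2f [[0],[1],[2],[3],[4],[5],[6]] [0,64,95,1] 161280 :=
  (LB.of_chain (kp := 6) ok_T2f (by decide +kernel) [(0,5,[[0],[1],[2],[3],[4],[5],[6]]),(64,2,[[0],[1],[2],[5,1,6]]),(95,4,[[5,1,6],[2,1,0]]),(1,3,[[2,1,0]])] (by decide +kernel)).cat
    (rels_T2f.inv inv_T2) (by decide +kernel) (c := [[0],[2],[4],[6],[8],[10],[12],[0],[2],[4],[10,2,11],[10,2,11],[4,2,0],[4,2,0]]) (by decide +kernel)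

theorem orc_T2 : Orc.{u} R_T2 [0,1,2,3,4,5,6] N_T2f [0,64,95,1] := ub_T2.oracle rels_T2f lb_136

theorem imp_Q1_T2_137c : impCert R_Q1 [0,1,2,3,5,6,7] R_T2 [(0,0),(1,0),(2,0),(3,0),(5,0),(6,0),(6,1),(8,0),(9,0),(10,0),(12,0),(13,0),(14,0),(16,0),(17,0),(19,0),(21,0),(23,0),(24,0),(25,0),(26,0),(27,0),(28,0),(30,0),(31,0),(25,1),(26,1),(34,0),(35,0),(37,0),(38,0),(39,0),(40,0),(41,0),(42,0),(43,0),(44,0),(43,2),(44,2),(47,0),(48,0),(49,0),(50,0),(51,0),(52,0),(53,0),(54,0),(55,0),(56,0),(57,0),(58,0),(62,0),(63,0),(64,0),(68,0),(69,0),(70,0)] = true := by decide +kernel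
theorem imp_Q1_T2_137 : Imp.{u} R_Q1 [0,1,2,3,5,6,7] R_T2 := Imp.of_cert imp_Q1_T2_137c

theorem der_E3 : Der.{u} R_Q1 [[2,3,6,2,3,6,2,3,6,2,3,6],[7,3,2,7,3,2,7,3,2,7,3,2],[2,6,3,7,2,6,3,7,2,6,3,7,2,6,3,7,2,6,3,7,2,6,3,7,2,6,3,7,2,6,3,7],[1,6,3,7,1,6,3,7],[1,2,3,7,1,2,3,7,1,2,3,7,1,2,3,7,1,2,3,7,1,2,3,7,1,2,3,7],[6,3,2,1,6,3,2,1,6,3,2,1,6,3,2,1,6,3,2,1,6,3,2,1,6,3,2,1],[1,7,3,6,1,7,3,6],[0,1,2,3,0,1,2,3,0,1,2,3,0,1,2,3,0,1,2,3,0,1,2,3],[3,2,1,0,3,2,1,0,3,2,1,0,3,2,1,0,3,2,1,0,3,2,1,0],[1,2,3,1,2,3,1,2,3,1,2,3,1,2,3,1,2,3,1,2,3,1,2,3],[3,2,1,3,2,1,3,2,1,3,2,1,3,2,1,3,2,1,3,2,1,3,2,1],[1,2,1,3,2,3,1,2,1,3,2,3,1,2,1,3,2,3,1,2,1,3,2,3]] :=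
  orc_T2.rels ok_T2f imp_Q1_T2_137 [[2,3,5,2,3,5,2,3,5,2,3,5],[6,3,2,6,3,2,6,3,2,6,3,2],[2,5,3,6,2,5,3,6,2,5,3,6,2,5,3,6,2,5,3,6,2,5,3,6,2,5,3,6,2,5,3,6],[1,5,3,6,1,5,3,6],[1,2,3,6,1,2,3,6,1,2,3,6,1,2,3,6,1,2,3,6,1,2,3,6,1,2,3,6],[5,3,2,1,5,3,2,1,5,3,2,1,5,3,2,1,5,3,2,1,5,3,2,1,5,3,2,1],[1,6,3,5,1,6,3,5],[0,1,2,3,0,1,2,3,0,1,2,3,0,1,2,3,0,1,2,3,0,1,2,3],[3,2,1,0,3,2,1,0,3,2,1,0,3,2,1,0,3,2,1,0,3,2,1,0],[1,2,3,1,2,3,1,2,3,1,2,3,1,2,3,1,2,3,1,2,3,1,2,3],[3,2,1,3,2,1,3,2,1,3,2,1,3,2,1,3,2,1,3,2,1,3,2,1],[1,2,1,3,2,3,1,2,1,3,2,3,1,2,1,3,2,3,1,2,1,3,2,3]] (by decide +kernel) (by decide +kernel) (by decide +kernel)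

theorem lb_138 : LB N_T3f [[0],[1],[2],[3],[4],[5],[6]] [0,2,6,13] 645120 :=
  (LB.of_chain (kp := 8) ok_T3f (by decide +kernel) [(0,7,[[0],[1],[2],[3],[4],[5],[6]]),(2,2,[[2],[3],[4],[5,2,6]]),(6,2,[[3],[4],[2,5,2,6]]),(13,1,[[4],[2,5,2,6]])] (by decide +kernel)).cat
    (rels_T3f.inv inv_T3) (by decide +kernel) (c := [[0],[2],[4],[6],[8],[10],[12],[4],[6],[8],[10,4,11],[6],[8],[4,10,4,11],[8],[4,10,4,11]]) (by decide +kernel)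

theorem orc_T3 : Orc.{u} R_T3 [0,1,2,3,4,5,6] N_T3f [0,2,6,13] := ub_T3.oracle rels_T3f lb_138

theorem imp_Q1_T3_139c : impCert R_Q1 [0,2,3,4,5,6,7] R_T3 [(0,0),(2,0),(3,0),(4,0),(5,0),(6,0),(6,1),(9,0),(10,0),(11,0),(12,0),(17,0),(18,0),(19,0),(20,0),(21,0),(22,0),(23,0),(24,0),(25,0),(26,0),(29,0),(30,0),(31,0),(25,1),(26,1),(36,0),(37,0),(38,0),(39,0),(40,0),(41,0),(42,0),(43,0),(44,0),(43,2),(44,2),(50,0),(51,0),(52,0),(56,0),(57,0),(58,0),(59,0),(60,0),(61,0),(62,0),(63,0),(64,0),(65,0),(66,0),(67,0),(68,0),(69,0),(70,0)] = true := by decide +kernel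
theorem imp_Q1_T3_139 : Imp.{u} R_Q1 [0,2,3,4,5,6,7] R_T3 := Imp.of_cert imp_Q1_T3_139c

theorem der_E4 : Der.{u} R_Q1 [[4,6,2,7,4,6,2,7],[4,7,2,6,4,7,2,6],[2,3,4,5,2,3,4,5,2,3,4,5,2,3,4,5,2,3,4,5,2,3,4,5],[5,4,3,2,5,4,3,2,5,4,3,2,5,4,3,2,5,4,3,2,5,4,3,2],[2,3,4,2,3,4,2,3,4,2,3,4,2,3,4,2,3,4,2,3,4,2,3,4],[4,3,2,4,3,2,4,3,2,4,3,2,4,3,2,4,3,2,4,3,2,4,3,2],[4,3,4,2,3,2,4,3,4,2,3,2,4,3,4,2,3,2,4,3,4,2,3,2]] :=
  orc_T3.rels ok_T3f imp_Q1_T3_139 [[3,5,1,6,3,5,1,6],[3,6,1,5,3,6,1,5],[1,2,3,4,1,2,3,4,1,2,3,4,1,2,3,4,1,2,3,4,1,2,3,4],[4,3,2,1,4,3,2,1,4,3,2,1,4,3,2,1,4,3,2,1,4,3,2,1],[1,2,3,1,2,3,1,2,3,1,2,3,1,2,3,1,2,3,1,2,3,1,2,3],[3,2,1,3,2,1,3,2,1,3,2,1,3,2,1,3,2,1,3,2,1,3,2,1],[3,2,3,1,2,1,3,2,3,1,2,1,3,2,3,1,2,1,3,2,3,1,2,1]] (by decide +kernel) (by decide +kernel) (by decide +kernel)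

theorem imp_Q1_T1m_140c : impCert R_Q1 [0,3,4,5,6,7] R_T1m [(0,0),(3,0),(4,0),(5,0),(6,0),(6,1),(10,0),(11,0),(12,0),(20,0),(21,0),(22,0),(23,0),(29,0)] = true := by decide +kernel
theorem imp_Q1_T1m_140 : Imp.{u} R_Q1 [0,3,4,5,6,7] R_T1m := Imp.of_cert imp_Q1_T1m_140c

theorem der_y : Der.{u} R_Q1 [[6,4,7,4,3,6,3,7,4,6,3,7,3,4],[6,4,7,6,4,7]] :=
  orc_T1m.rels ok_T1mf imp_Q1_T1m_140 [[4,2,5,2,1,4,1,5,2,4,1,5,1,2],[4,2,5,4,2,5]] (by decide +kernel) (by decide +kernel) (by decide +kernel)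

theorem der_c1 : Der.{u} R_Q1 [[1,3,1,3],[1,4,1,4],[1,5,1,5]] := Der.of_cert (c := [(14,0),(15,0),(16,0)]) (by decide +kernel)

theorem der_c2 : Der.{u} R_Q1 [[1,6,3,7,1,6,3,7]] :=
  orc_T2.rels ok_T2f imp_Q1_T2_137 [[1,5,3,6,1,5,3,6]] (by decide +kernel) (by decide +kernel) (by decide +kernel)

theorem der_bb : Der.{u} R_Q1 [[1,1]] := Der.of_cert (c := [(1,0)]) (by decide +kernel)

theorem der_be : Der.{u} R_Q1 [[1,6,4,7,1,6,4,7]] :=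
  der_comm (W := [[3],[4],[5],[6,3,7]]) (x := [6,4,7]) (y := [4,3,6,3,7,4,6,3,7,3,4]) (v := [2,0,6,2,6,0,2]) (t := 1) inv_Q1 (der_c1.and der_c2) der_bb der_y
    (by decide +kernel) (by decide +kernel) (by decide +kernel)

def R_Q2 : List (List ℕ) := [[0,0],[1,1],[2,2],[3,3],[4,4],[5,5],[7,6],[6,7],[0,1,0,1,0,1],[0,2,0,2],[0,3,0,3],[0,4,0,4],[0,5,0,5],[1,2,1,2,1,2],[1,3,1,3],[1,4,1,4],[1,5,1,5],[2,3,2,3,2,3,2,3,2,3,2,3,2,3,2,3],[2,4,2,4],[2,5,2,5],[3,4,3,4,3,4],[3,5,3,5],[4,5,4,5,4,5],[0,5,7,7],[0,5,3,2,3,2,3,2,3,2],[2,7,3,7,3,2,3,6,3,6],[3,7,2,7,2,3,2,6,2,6],[1,2,3,6,1,2,3,6,1,2,3,6,1,2,3,6,1,2,3,6],[6,1,2,6,2,1,6,1,2,6,2],[6,4,3,6,3,4,6,4,3,6,3],[6,6,5,0],[2,3,2,3,2,3,2,3,5,0],[7,3,7,3,2,3,6,3,6,2],[7,2,7,2,3,2,6,2,6,3],[7,3,2,1,7,3,2,1,7,3,2,1,7,3,2,1,7,3,2,1],[2,7,2,1,7,1,2,7,2,1,7],[3,7,3,4,7,4,3,7,3,4,7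],[6,6,6,6],[7,7,7,7],[7,0,6,0],[7,5,6,5],[5,0,7,7],[6,6,0,5],[0,7,5,7],[6,5,6,0],[5,7,0,7],[6,0,6,5],[1,6,1,7,1,6,1,7,1,6,1,7],[1,6,1,6,1,6,1,6],[7,1,7,1,7,1,7,1],[2,6,2,6,2,6,2,6,2,6,2,6,2,6,2,6],[7,2,7,2,7,2,7,2,7,2,7,2,7,2,7,2],[2,6,2,7,2,6,2,7,2,6,2,7,2,6,2,7],[1,6,2,7,1,6,2,7,1,6,2,7,1,6,2,7,1,6,2,7],[1,2,6,1,2,6,1,2,6,1,2,6,1,2,6,1,2,6,1,2,6,1,2,6],[7,2,1,7,2,1,7,2,1,7,2,1,7,2,1,7,2,1,7,2,1,7,2,1],[2,6,6,2,7,7],[2,6,2,6,2,6,2,6,0],[0,7,2,7,2,7,2,7,2],[4,6,4,7,4,6,4,7,4,6,4,7],[4,6,4,6,4,6,4,6],[7,4,7,4,7,4,7,4],[3,6,3,6,3,6,3,6,3,6,3,6,3,6,3,6],[7,3,7,3,7,3,7,3,7,3,7,3,7,3,7,3],[3,6,3,7,3,6,3,7,3,6,3,7,3,6,3,7],[4,6,3,7,4,6,3,7,4,6,3,7,4,6,3,7,4,6,3,7],[4,3,6,4,3,6,4,3,6,4,3,6,4,3,6,4,3,6,4,3,6,4,3,6],[7,3,4,7,3,4,7,3,4,7,3,4,7,3,4,7,3,4,7,3,4,7,3,4],[3,6,6,3,7,7],[3,6,3,6,3,6,3,6,5],[5,7,3,7,3,7,3,7,3]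,[2,3,6,2,3,6,2,3,6,2,3,6],[7,3,2,7,3,2,7,3,2,7,3,2],[2,6,3,7,2,6,3,7,2,6,3,7,2,6,3,7,2,6,3,7,2,6,3,7,2,6,3,7,2,6,3,7],[1,6,3,7,1,6,3,7],[1,2,3,7,1,2,3,7,1,2,3,7,1,2,3,7,1,2,3,7,1,2,3,7,1,2,3,7],[6,3,2,1,6,3,2,1,6,3,2,1,6,3,2,1,6,3,2,1,6,3,2,1,6,3,2,1],[1,7,3,6,1,7,3,6],[0,1,2,3,0,1,2,3,0,1,2,3,0,1,2,3,0,1,2,3,0,1,2,3],[3,2,1,0,3,2,1,0,3,2,1,0,3,2,1,0,3,2,1,0,3,2,1,0],[1,2,3,1,2,3,1,2,3,1,2,3,1,2,3,1,2,3,1,2,3,1,2,3],[3,2,1,3,2,1,3,2,1,3,2,1,3,2,1,3,2,1,3,2,1,3,2,1],[1,2,1,3,2,3,1,2,1,3,2,3,1,2,1,3,2,3,1,2,1,3,2,3],[4,6,2,7,4,6,2,7],[4,7,2,6,4,7,2,6],[2,3,4,5,2,3,4,5,2,3,4,5,2,3,4,5,2,3,4,5,2,3,4,5],[5,4,3,2,5,4,3,2,5,4,3,2,5,4,3,2,5,4,3,2,5,4,3,2],[2,3,4,2,3,4,2,3,4,2,3,4,2,3,4,2,3,4,2,3,4,2,3,4],[4,3,2,4,3,2,4,3,2,4,3,2,4,3,2,4,3,2,4,3,2,4,3,2],[4,3,4,2,3,2,4,3,4,2,3,2,4,3,4,2,3,2,4,3,4,2,3,2],[1,6,4,7,1,6,4,7]]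
def iv_Q2 : List ℕ := [0,1,2,3,4,5,7,6]
theorem inv_Q2 : invOK R_Q2 iv_Q2 8 = true := by decide +kernel

theorem der_Q2 : Der.{u} R_Q1 R_Q2 :=
  Der.trans ((((Der.refl R_Q1).and der_E3).and der_E4).and der_be) (Der.of_cert (c := [(0,0),(1,0),(2,0),(3,0),(4,0),(5,0),(6,0),(6,1),(8,0),(9,0),(10,0),(11,0),(12,0),(13,0),(14,0),(15,0),(16,0),(17,0),(18,0),(19,0),(20,0),(21,0),(22,0),(23,0),(24,0),(25,0),(26,0),(27,0),(28,0),(29,0),(30,0),(31,0),(25,1),(26,1),(34,0),(35,0),(36,0),(37,0),(38,0),(39,0),(40,0),(41,0),(42,0),(43,0),(44,0),(43,2),(44,2),(47,0),(48,0),(49,0),(50,0),(51,0),(52,0),(53,0),(54,0),(55,0),(56,0),(57,0),(58,0),(59,0),(60,0),(61,0),(62,0),(63,0),(64,0),(65,0),(66,0),(67,0),(68,0),(69,0),(70,0),(71,0),(72,0),(73,0),(74,0),(75,0),(76,0),(77,0),(78,0),(79,0),(80,0),(81,0),(82,0),(83,0),(84,0),(85,0),(86,0),(87,0),(88,0),(89,0),(90,0)])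 (by decide +kernel))

def R_T4 : List (List ℕ) := [[0,0],[1,1],[2,2],[3,3],[4,4],[6,5],[5,6],[0,1,0,1,0,1],[0,2,0,2],[0,3,0,3],[0,4,0,4],[1,2,1,2,1,2],[1,3,1,3],[1,4,1,4],[2,3,2,3],[2,4,2,4],[3,4,3,4,3,4],[0,4,6,6],[5,1,2,5,2,1,5,1,2,5,2],[5,5,4,0],[2,6,2,1,6,1,2,6,2,1,6],[5,5,5,5],[6,6,6,6],[6,0,5,0],[6,4,5,4],[4,0,6,6],[5,5,0,4],[0,6,4,6],[5,4,5,0],[4,6,0,6],[5,0,5,4],[1,5,1,6,1,5,1,6,1,5,1,6],[1,5,1,5,1,5,1,5],[6,1,6,1,6,1,6,1],[2,5,2,5,2,5,2,5,2,5,2,5,2,5,2,5],[6,2,6,2,6,2,6,2,6,2,6,2,6,2,6,2],[2,5,2,6,2,5,2,6,2,5,2,6,2,5,2,6],[1,5,2,6,1,5,2,6,1,5,2,6,1,5,2,6,1,5,2,6],[1,2,5,1,2,5,1,2,5,1,2,5,1,2,5,1,2,5,1,2,5,1,2,5],[6,2,1,6,2,1,6,2,1,6,2,1,6,2,1,6,2,1,6,2,1,6,2,1],[2,5,5,2,6,6],[2,5,2,5,2,5,2,5,0],[0,6,2,6,2,6,2,6,2],[3,5,3,6,3,5,3,6,3,5,3,6],[3,5,3,5,3,5,3,5],[6,3,6,3,6,3,6,3],[3,5,2,6,3,5,2,6],[3,6,2,5,3,6,2,5],[1,5,3,6,1,5,3,6]]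
def iv_T4 : List ℕ := [0,1,2,3,4,6,5]
theorem inv_T4 : invOK R_T4 iv_T4 7 = true := by decide +kernel

noncomputable def n_T4_0 : Net := (Net.cons (nat_lit 1) (nat_lit 0x15410510055500444140110)
  (Net.cons (nat_lit 2) (nat_lit 0x2030113002103022020010)
  (Net.cons (nat_lit 4) (nat_lit 0x507080103010b00090004)
  (Net.cons (nat_lit 8) (nat_lit 0x100bc007d005d004c0004)
  (Net.cons (nat_lit 16) (nat_lit 0x26c0000efdf00000094)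
  (Net.cons (nat_lit 32) (nat_lit 0x5d226c00)
  (Net.cons (nat_lit 64) (nat_lit 0x206c00)
  (Net.cons (nat_lit 32) (nat_lit 0x206c00)
  (Net.cons (nat_lit 16) (nat_lit 0x2000006d0200000000)
  (Net.cons (nat_lit 8) (nat_lit 0xc005d005d004c0004)
  (Net.cons (nat_lit 4) (nat_lit 0x507080003000b00090000)
  (Net.cons (nat_lit 2) (nat_lit 0x30113002103000020010)
  (Net.cons (nat_lit 1) (nat_lit 0x15410510045500444040010)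
  Net.nil)))))))))))))

noncomputable def n_T4_1 : Net := (Net.cons (nat_lit 1) (nat_lit 0x140000004405011440144)
  (Net.cons (nat_lit 2) (nat_lit 0x1021323212013121200012)
  (Net.cons (nat_lit 4) (nat_lit 0xf0103020b01030f090100)
  (Net.cons (nat_lit 8) (nat_lit 0xb40095002700200004)
  (Net.cons (nat_lit 16) (nat_lit 0x1c000006f5f00002980)
  (Net.cons (nat_lit 32) (nat_lit 0x52f5f831)
  (Net.cons (nat_lit 64) (nat_lit 0x80f831)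
  (Net.cons (nat_lit 32) (nat_lit 0x80f831)
  (Net.cons (nat_lit 16) (nat_lit 0x800000487500000000)
  (Net.cons (nat_lit 8) (nat_lit 0x9000b7000500200000)
  (Net.cons (nat_lit 4) (nat_lit 0x40103020901010d090100)
  (Net.cons (nat_lit 2) (nat_lit 0x1021323212013121200000)
  (Net.cons (nat_lit 1) (nat_lit 0x140000004405011440044)
  Net.nil)))))))))))))

noncomputable def n_T4_2 : Net := (Net.cons (nat_lit 1) (nat_lit 0x1014400505005400010)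
  (Net.cons (nat_lit 2) (nat_lit 0x1002002120310230200202)
  (Net.cons (nat_lit 4) (nat_lit 0xa0908040308020f0b0b04)
  (Net.cons (nat_lit 8) (nat_lit 0x300f900bd00d6004d0020)
  (Net.cons (nat_lit 16) (nat_lit 0x10000f2f600009690)
  (Net.cons (nat_lit 32) (nat_lit 0x60664100)
  (Net.cons (nat_lit 64) (nat_lit 0x4100)
  (Net.cons (nat_lit 32) (nat_lit 0x4100)
  (Net.cons (nat_lit 16) (nat_lit 0x606600000000)
  (Net.cons (nat_lit 8) (nat_lit 0x100410000000600040000)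
  (Net.cons (nat_lit 4) (nat_lit 0x20100040308020f0b0b00)
  (Net.cons (nat_lit 2) (nat_lit 0x2002120310230200200)
  (Net.cons (nat_lit 1) (nat_lit 0x1014400505005400010)
  Net.nil)))))))))))))

noncomputable def n_T4_3 : Net := (Net.cons (nat_lit 1) (nat_lit 0x15145110440045100014050)
  (Net.cons (nat_lit 2) (nat_lit 0x2330020102110210000000)
  (Net.cons (nat_lit 4) (nat_lit 0xb010006000904090006)
  (Net.cons (nat_lit 8) (nat_lit 0x2006b00cd000500080008)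
  (Net.cons (nat_lit 16) (nat_lit 0xf40000b54f00000490)
  (Net.cons (nat_lit 32) (nat_lit 0x91e8000)
  (Net.cons (nat_lit 64) (nat_lit 0x108000)
  (Net.cons (nat_lit 32) (nat_lit 0x108000)
  (Net.cons (nat_lit 16) (nat_lit 0x100000890600000000)
  (Net.cons (nat_lit 8) (nat_lit 0x6000c5000d00000000)
  (Net.cons (nat_lit 4) (nat_lit 0xb010004000904090000)
  (Net.cons (nat_lit 2) (nat_lit 0x2310000102110210000000)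
  (Net.cons (nat_lit 1) (nat_lit 0x15145110040005000010050)
  Net.nil)))))))))))))

noncomputable def n_T4_4 : Net := (Net.cons (nat_lit 1) (nat_lit 0x14140114400041100405000)
  (Net.cons (nat_lit 2) (nat_lit 0x2230221223020000000000)
  (Net.cons (nat_lit 4) (nat_lit 0x10802010b000308000000)
  (Net.cons (nat_lit 8) (nat_lit 0x300ff0091000900000010)
  (Net.cons (nat_lit 16) (nat_lit 0xc40000ef4b00000880)
  (Net.cons (nat_lit 32) (nat_lit 0x11ca8102)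
  (Net.cons (nat_lit 64) (nat_lit 0x808102)
  (Net.cons (nat_lit 32) (nat_lit 0x808102)
  (Net.cons (nat_lit 16) (nat_lit 0x800000814a00000000)
  (Net.cons (nat_lit 8) (nat_lit 0x470011000900000000)
  (Net.cons (nat_lit 4) (nat_lit 0x108020101000308000000)
  (Net.cons (nat_lit 2) (nat_lit 0x212201201020000000000)
  (Net.cons (nat_lit 1) (nat_lit 0x14040114000001000401000)
  Net.nil)))))))))))))

noncomputable def n_T4_5 : Net := (Net.cons (nat_lit 1) (nat_lit 0x500051040500411545555)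
  (Net.cons (nat_lit 2) (nat_lit 0x230033113013022002120)
  (Net.cons (nat_lit 4) (nat_lit 0xd0609070b07060e020b04)
  (Net.cons (nat_lit 8) (nat_lit 0x3005c00ed00eb00e800fc)
  (Net.cons (nat_lit 16) (nat_lit 0x2bc0000bf3c00000490)
  (Net.cons (nat_lit 32) (nat_lit 0xe31ca503)
  (Net.cons (nat_lit 64) (nat_lit 0xa503)
  (Net.cons (nat_lit 32) (nat_lit 0xa503)
  (Net.cons (nat_lit 16) (nat_lit 0xe71400002000)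
  (Net.cons (nat_lit 8) (nat_lit 0x8c00a500e700a40000)
  (Net.cons (nat_lit 4) (nat_lit 0x9070d07000b0101050300)
  (Net.cons (nat_lit 2) (nat_lit 0x201020200121033001210)
  (Net.cons (nat_lit 1) (nat_lit 0x1144440110114044514100)
  Net.nil)))))))))))))

noncomputable def n_T4_6 : Net := Net.rev n_T4_5

noncomputable def NL_T4 : List Net := [n_T4_0,n_T4_1,n_T4_2,n_T4_3,n_T4_4,n_T4_5,n_T4_6]
theorem okL_T4 : okL 90 NL_T4 = true := by decide +kernel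
noncomputable def N_T4 : ℕ → Net := nth NL_T4
theorem ok_T4 : ∀ a, (N_T4 a).ok 90 = true := ok_nth okL_T4

def ps_T4 : List (List ℕ × List ℕ) := [([0,0],[]),([1,1],[]),([2,2],[]),([3,3],[]),([4,4],[]),([6,5],[]),([5,6],[]),([0,1,0],[1,0,1]),([0,2],[2,0]),([0,3],[3,0]),([0,4],[4,0]),([1,2,1],[2,1,2]),([1,3],[3,1]),([1,4],[4,1]),([2,3],[3,2]),([2,4],[4,2]),([3,4,3],[4,3,4]),([0,4],[5,5]),([5,1,2,5,2,1],[2,6,2,1,6]),([5,5],[0,4]),([2,6,2,1,6,1],[5,1,2,5,2]),([5,5],[6,6]),([6,6],[5,5]),([6,0],[0,6]),([6,4],[4,6]),([4,0],[5,5]),([5,5],[4,0]),([0,6],[5,4]),([5,4],[0,6]),([4,6],[5,0]),([5,0],[4,6]),([1,5,1,6,1,5],[5,1,6,1,5,1]),([1,5,1,5],[6,1,6,1]),([6,1,6,1],[1,5,1,5]),([2,5,2,5,2,5,2,5],[6,2,6,2,6,2,6,2]),([6,2,6,2,6,2,6,2],[2,5,2,5,2,5,2,5]),([2,5,2,6,2,5,2,6],[5,2,6,2,5,2,6,2]),([1,5,2,6,1,5,2,6,1,5],[5,2,6,1,5,2,6,1,5,2]),([1,2,5,1,2,5,1,2,5,1,2,5],[6,2,1,6,2,1,6,2,1,6,2,1]),([6,2,1,6,2,1,6,2,1,6,2,1],[1,2,5,1,2,5,1,2,5,1,2,5]),([2,5,5],[5,5,2]),([2,5,2,5,2],[0,6,2,6]),([0,6,2,6,2],[2,5,2,5]),([3,5,3,6,3,5],[5,3,6,3,5,3]),([3,5,3,5],[6,3,6,3]),([6,3,6,3],[3,5,3,5]),([3,5,2,6],[5,2,6,3]),([3,6,2,5],[6,2,5,3]),([1,5,3,6],[5,3,6,1])]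

theorem pl_T4 : ∀ j < 7, planeOK N_T4 ps_T4 (plN 90 7 j) = true := allLt_iff.1 (by decide +kernel)

theorem rels_T4 : Rels (pms N_T4) R_T4 := rels_of_planes ok_T4 (by decide +kernel) (iv := iv_T4) pl_T4 (by decide +kernel)

theorem imp_T4_T1_141c : impCert R_T4 [0,1,2,4,5,6] R_T1 [(0,0),(1,0),(2,0),(4,0),(5,0),(5,1),(7,0),(8,0),(10,0),(11,0),(13,0),(15,0),(17,0),(18,0)] = true := by decide +kernel
theorem imp_T4_T1_141 : Imp.{u} R_T4 [0,1,2,4,5,6] R_T1 := Imp.of_cert imp_T4_T1_141c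

theorem lb_142 : LB N_Sf [[0],[4]] [0,3] 4 :=
  (LB.of_chain (kp := 1) ok_Sf (by decide +kernel) [(0,1,[[0],[4]]),(3,1,[[0]])] (by decide +kernel)).cat
    (rels_Sf.inv inv_S) (by decide +kernel) (c := [[0],[2],[0]]) (by decide +kernel)

theorem ui_S_143 : UI.{u} R_S [0,1,2,3,4] [[0],[4]] 36 :=
  UI.of_UB ub_S rels_Sf lb_142 (by decide +kernel) (by decide +kernel)

theorem imp_T4_S_144c : impCert R_T4 [0,1,2,3,4] R_S [(0,0),(1,0),(2,0),(3,0),(4,0),(7,0),(8,0),(9,0),(10,0),(11,0),(12,0),(13,0),(14,0),(15,0),(16,0)] = true := by decide +kernel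
theorem imp_T4_S_144 : Imp.{u} R_T4 [0,1,2,3,4] R_S := Imp.of_cert imp_T4_S_144c

theorem lb_145 : LB N_Sf [[0],[2],[4],[1,2,0,1]] [5,0,3] 16 :=
  (LB.of_chain (kp := 1) ok_Sf (by decide +kernel) [(5,1,[[0],[2],[4],[1,2,0,1]]),(0,1,[[0],[4]]),(3,1,[[0]])] (by decide +kernel)).cat
    (rels_Sf.inv inv_S) (by decide +kernel) (c := [[0],[2],[4],[6],[0],[4],[0]]) (by decide +kernel)

theorem ui_S_146 : UI.{u} R_S [0,1,2,3,4] [[0],[2],[4],[1,2,0,1]] 9 :=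
  UI.of_UB ub_S rels_Sf lb_145 (by decide +kernel) (by decide +kernel)

theorem lb_147 : LB N_T1f [[0],[1],[2]] [13,2,4] 24 :=
  (LB.of_chain (kp := 3) ok_T1f (by decide +kernel) [(13,2,[[0],[1],[2]]),(2,1,[[0],[2]]),(4,1,[[0]])] (by decide +kernel)).cat
    (rels_T1f.inv inv_T1) (by decide +kernel) (c := [[0],[2],[4],[0],[4],[0]]) (by decide +kernel)

theorem ui_T1_148 : UI.{u} R_T1 [0,1,2,3,4,5] [[0],[1],[2]] 60 :=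
  UI.of_UB ub_T1 rels_T1f lb_147 (by decide +kernel) (by decide +kernel)

def hs_T4 : List (List ℕ × List (List ℕ) × ℕ) := [([0,1,2,4,5,6],[[0],[1],[2],[4]],30),([0,1,2,3,4],[[0],[4]],36),([0,1,2,3,4],[[0],[2],[4],[1,2,0,1]],9),([0,1,2,4,5,6],[[0],[1],[2]],60)]
theorem hh_T4 : ∀ h ∈ hs_T4, UI.{u} R_T4 h.1 h.2.1 h.2.2 :=
  List.forall_mem_cons.2 ⟨ui_T1.ren imp_T4_T1_141 (by decide +kernel) (by decide +kernel),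
    List.forall_mem_cons.2 ⟨ui_S_143.ren imp_T4_S_144 (by decide +kernel) (by decide +kernel),
    List.forall_mem_cons.2 ⟨ui_S_146.ren imp_T4_S_144 (by decide +kernel) (by decide +kernel),
    List.forall_mem_cons.2 ⟨ui_T1_148.ren imp_T4_T1_141 (by decide +kernel) (by decide +kernel),
    List.forall_mem_nil _⟩⟩⟩⟩

theorem e_T4_0 : erun 90 4 N_T4 R_T4 iv_T4 7 hs_T4 (stK (ones 90) (mkK 90 (ones 90) [0,1,2,3,4,5,6]))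
  [.orb [0,1,2,4,5,6] [[0],[1],[2],[4]] 30 0 0 4, .rel 46 0, .rel 48 2, .rel 9 1, .rel 14 1, .rel 48 2, .rel 12 1, .orb [0,1,2,3,4] [[0],[4]] 36 1 3 1, .orb [0,1,2,3,4] [[0],[2],[4],[1,2,0,1]] 9 66 1 1, .grow [6] 1 (bit 80), .rel 5 1, .rel 17 3, .rel 19 0, .rel 23 3, .rel 46 2, .grow [6] 1 (bit 13), .rel 5 1, .rel 17 3, .rel 19 0, .rel 23 3, .rel 46 2, .grow [6] 1 (bit 36), .rel 5 1, .rel 17 3, .rel 19 0, .grow [0,1,2,3,4] 1 (nat_lit 0x4000), .rel 3 0, .rel 9 0, .rel 14 0, .rel 44 1, .rel 45 0, .rel 48 0, .rel 12 0, .rel 17 3, .rel 17 1, .rel 19 0, .orb [0,1,2,4,5,6] [[0],[1],[2]] 60 14 4 2, .rel 44 0, .rel 45 1, .rel 46 3, .rel 46 1, .rel 47 3, .rel 47 1, .rel 48 3, .rel 48 1, .rel 41 1, .rel 42 1, .rel 18 0, .rel 18 1, .rel 18 3, .rel 18 5, .rel 18 6, .rel 20 10, .rel 20 1, .rel 20 4, .rel 20 7, .rel 12 1, .rel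 13 1]
  (bit 0) (mkK 90 (bit 0) [0,1,2,3,4]) = true := by decide +kernel
theorem r_T4_0 : Run.{u} 90 N_T4 R_T4 0 (bit 0) (mkK 90 (bit 0) [0,1,2,3,4]) (ones 90) (mkK 90 (ones 90) [0,1,2,3,4,5,6]) := (Run.of_cert ok_T4 (by decide +kernel) inv_T4 hh_T4 e_T4_0 0)

theorem ui_T4 : UI.{u} R_T4 [0,1,2,3,4,5,6] (sing [0,1,2,3,4]) 90 :=
  UI.of_run (kp := 4) (O := (ones 90)) ok_T4 (by decide +kernel) rels_T4 r_T4_0 (by decide +kernel)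

theorem ub_T4 : UB.{u} R_T4 [0,1,2,3,4,5,6] 12960 :=
  (ui_T4.mul (UI.ren (S := [0,1,2,3,4]) (W := []) ub_S imp_T4_S_144 (by decide +kernel) rfl) (by decide +kernel) (by decide +kernel)).le (by decide +kernel)

def R_T5 : List (List ℕ) := [[0,0],[1,1],[2,2],[3,3],[4,4],[6,5],[5,6],[0,1,0,1,0,1],[0,2,0,2],[0,3,0,3],[0,4,0,4],[1,2,1,2],[1,3,1,3],[1,4,1,4],[2,3,2,3,2,3],[2,4,2,4],[3,4,3,4,3,4],[0,4,6,6],[5,3,2,5,2,3,5,3,2,5,2],[5,5,4,0],[2,6,2,3,6,3,2,6,2,3,6],[5,5,5,5],[6,6,6,6],[6,0,5,0],[6,4,5,4],[4,0,6,6],[5,5,0,4],[0,6,4,6],[5,4,5,0],[4,6,0,6],[5,0,5,4],[1,5,1,6,1,5,1,6,1,5,1,6],[1,5,1,5,1,5,1,5],[6,1,6,1,6,1,6,1],[3,5,3,6,3,5,3,6,3,5,3,6],[3,5,3,5,3,5,3,5],[6,3,6,3,6,3,6,3],[2,5,2,5,2,5,2,5,2,5,2,5,2,5,2,5],[6,2,6,2,6,2,6,2,6,2,6,2,6,2,6,2],[2,5,2,6,2,5,2,6,2,5,2,6,2,5,2,6],[3,5,2,6,3,5,2,6,3,5,2,6,3,5,2,6,3,5,2,6],[3,2,5,3,2,5,3,2,5,3,2,5,3,2,5,3,2,5,3,2,5,3,2,5],[6,2,3,6,2,3,6,2,3,6,2,3,6,2,3,6,2,3,6,2,3,6,2,3],[2,5,5,2,6,6],[2,5,2,5,2,5,2,5,4],[4,6,2,6,2,6,2,6,2],[1,5,2,6,1,5,2,6],[1,6,2,5,1,6,2,5],[1,5,3,6,1,5,3,6]]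
def iv_T5 : List ℕ := [0,1,2,3,4,6,5]
theorem inv_T5 : invOK R_T5 iv_T5 7 = true := by decide +kernel

noncomputable def n_T5_0 : Net := (Net.cons (nat_lit 1) (nat_lit 0x154014041500000140110)
  (Net.cons (nat_lit 2) (nat_lit 0x2333013132022201120010)
  (Net.cons (nat_lit 4) (nat_lit 0x10c000b03000b040f0004)
  (Net.cons (nat_lit 8) (nat_lit 0x3003c0049004000000000)
  (Net.cons (nat_lit 16) (nat_lit 0x2300000f56f00000090)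
  (Net.cons (nat_lit 32) (nat_lit 0x422d0001)
  (Net.cons (nat_lit 64) (nat_lit 0x2000001)
  (Net.cons (nat_lit 32) (nat_lit 0x2000001)
  (Net.cons (nat_lit 16) (nat_lit 0x2000000402d00000000)
  (Net.cons (nat_lit 8) (nat_lit 0x330041004000000000)
  (Net.cons (nat_lit 4) (nat_lit 0x20c000b03000b04090000)
  (Net.cons (nat_lit 2) (nat_lit 0x1333023132002201120010)
  (Net.cons (nat_lit 1) (nat_lit 0x15400040041500400000010)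
  Net.nil)))))))))))))

noncomputable def n_T5_1 : Net := (Net.cons (nat_lit 1) (nat_lit 0x11115040005501000500114)
  (Net.cons (nat_lit 2) (nat_lit 0x311000001133000200022)
  (Net.cons (nat_lit 4) (nat_lit 0x406040e00000300080004)
  (Net.cons (nat_lit 8) (nat_lit 0x200f3000f002700340000)
  (Net.cons (nat_lit 16) (nat_lit 0xe40000d36500003400)
  (Net.cons (nat_lit 32) (nat_lit 0x3640000)
  (Net.cons (nat_lit 16) (nat_lit 0x36400000000)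
  (Net.cons (nat_lit 8) (nat_lit 0xa40001002700340000)
  (Net.cons (nat_lit 4) (nat_lit 0x2000e00000300000000)
  (Net.cons (nat_lit 2) (nat_lit 0x311000001113000200000)
  (Net.cons (nat_lit 1) (nat_lit 0x11115040005501000500014)
  Net.nil)))))))))))

noncomputable def n_T5_2 : Net := (Net.cons (nat_lit 1) (nat_lit 0x15411010051505401410000)
  (Net.cons (nat_lit 2) (nat_lit 0x2020200320112311300002)
  (Net.cons (nat_lit 4) (nat_lit 0x50b0406000e0e08020004)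
  (Net.cons (nat_lit 8) (nat_lit 0x10049004b00d200030010)
  (Net.cons (nat_lit 16) (nat_lit 0x2000000747f000064a0)
  (Net.cons (nat_lit 32) (nat_lit 0x4317c000)
  (Net.cons (nat_lit 64) (nat_lit 0x4000)
  (Net.cons (nat_lit 32) (nat_lit 0x4000)
  (Net.cons (nat_lit 16) (nat_lit 0x431400004000)
  (Net.cons (nat_lit 8) (nat_lit 0x40004800d100000000)
  (Net.cons (nat_lit 4) (nat_lit 0x10b040200020e00020000)
  (Net.cons (nat_lit 2) (nat_lit 0x20000320112301300000)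
  (Net.cons (nat_lit 1) (nat_lit 0x15410010041505401410000)
  Net.nil)))))))))))))

noncomputable def n_T5_3 : Net := (Net.cons (nat_lit 1) (nat_lit 0x5444554004450405454450)
  (Net.cons (nat_lit 2) (nat_lit 0x2010311222012202000000)
  (Net.cons (nat_lit 4) (nat_lit 0xf010f0007000801090006)
  (Net.cons (nat_lit 8) (nat_lit 0x660065000d00000008)
  (Net.cons (nat_lit 16) (nat_lit 0x19800009de700001490)
  (Net.cons (nat_lit 32) (nat_lit 0x687fe864)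
  (Net.cons (nat_lit 64) (nat_lit 0x18e864)
  (Net.cons (nat_lit 32) (nat_lit 0x18e864)
  (Net.cons (nat_lit 16) (nat_lit 0x180000886700000000)
  (Net.cons (nat_lit 8) (nat_lit 0x640065000d00000000)
  (Net.cons (nat_lit 4) (nat_lit 0x8010f0007000801090000)
  (Net.cons (nat_lit 2) (nat_lit 0x2010211222012202000000)
  (Net.cons (nat_lit 1) (nat_lit 0x5444554004450405450450)
  Net.nil)))))))))))))

noncomputable def n_T5_4 : Net := (Net.cons (nat_lit 1) (nat_lit 0x14011404110041544505400)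
  (Net.cons (nat_lit 2) (nat_lit 0x1200120000210110000000)
  (Net.cons (nat_lit 4) (nat_lit 0x70f06050e080306000200)
  (Net.cons (nat_lit 8) (nat_lit 0x1004800e1007500400010)
  (Net.cons (nat_lit 16) (nat_lit 0x36000005ffe00000a80)
  (Net.cons (nat_lit 32) (nat_lit 0x61164416)
  (Net.cons (nat_lit 64) (nat_lit 0x4416)
  (Net.cons (nat_lit 32) (nat_lit 0x4416)
  (Net.cons (nat_lit 16) (nat_lit 0x451600000000)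
  (Net.cons (nat_lit 8) (nat_lit 0x2004000e0007500400000)
  (Net.cons (nat_lit 4) (nat_lit 0x70f02050a080302000200)
  (Net.cons (nat_lit 2) (nat_lit 0x2200120000210110000000)
  (Net.cons (nat_lit 1) (nat_lit 0x1000404110001404501400)
  Net.nil)))))))))))))

noncomputable def n_T5_5 : Net := (Net.cons (nat_lit 1) (nat_lit 0x544415000445141444101)
  (Net.cons (nat_lit 2) (nat_lit 0x201023001031031323233)
  (Net.cons (nat_lit 4) (nat_lit 0x10b070f08000807010801)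
  (Net.cons (nat_lit 8) (nat_lit 0x300d400ba003600e00093)
  (Net.cons (nat_lit 16) (nat_lit 0x3f80000aaff00004520)
  (Net.cons (nat_lit 32) (nat_lit 0xa14be001)
  (Net.cons (nat_lit 64) (nat_lit 0x100e001)
  (Net.cons (nat_lit 32) (nat_lit 0x100e001)
  (Net.cons (nat_lit 16) (nat_lit 0x1000000e04b00000000)
  (Net.cons (nat_lit 8) (nat_lit 0xc800fe002200810040)
  (Net.cons (nat_lit 4) (nat_lit 0x503070b0d000d02000900)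
  (Net.cons (nat_lit 2) (nat_lit 0x211021101302100230223)
  (Net.cons (nat_lit 1) (nat_lit 0x1151504400444005040000)
  Net.nil)))))))))))))

noncomputable def n_T5_6 : Net := Net.rev n_T5_5

noncomputable def NL_T5 : List Net := [n_T5_0,n_T5_1,n_T5_2,n_T5_3,n_T5_4,n_T5_5,n_T5_6]
theorem okL_T5 : okL 90 NL_T5 = true := by decide +kernel
noncomputable def N_T5 : ℕ → Net := nth NL_T5
theorem ok_T5 : ∀ a, (N_T5 a).ok 90 = true := ok_nth okL_T5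

def ps_T5 : List (List ℕ × List ℕ) := [([0,0],[]),([1,1],[]),([2,2],[]),([3,3],[]),([4,4],[]),([6,5],[]),([5,6],[]),([0,1,0],[1,0,1]),([0,2],[2,0]),([0,3],[3,0]),([0,4],[4,0]),([1,2],[2,1]),([1,3],[3,1]),([1,4],[4,1]),([2,3,2],[3,2,3]),([2,4],[4,2]),([3,4,3],[4,3,4]),([0,4],[5,5]),([5,3,2,5,2,3],[2,6,2,3,6]),([5,5],[0,4]),([2,6,2,3,6,3],[5,3,2,5,2]),([5,5],[6,6]),([6,6],[5,5]),([6,0],[0,6]),([6,4],[4,6]),([4,0],[5,5]),([5,5],[4,0]),([0,6],[5,4]),([5,4],[0,6]),([4,6],[5,0]),([5,0],[4,6]),([1,5,1,6,1,5],[5,1,6,1,5,1]),([1,5,1,5],[6,1,6,1]),([6,1,6,1],[1,5,1,5]),([3,5,3,6,3,5],[5,3,6,3,5,3]),([3,5,3,5],[6,3,6,3]),([6,3,6,3],[3,5,3,5]),([2,5,2,5,2,5,2,5],[6,2,6,2,6,2,6,2]),([6,2,6,2,6,2,6,2],[2,5,2,5,2,5,2,5]),([2,5,2,6,2,5,2,6],[5,2,6,2,5,2,6,2]),([3,5,2,6,3,5,2,6,3,5],[5,2,6,3,5,2,6,3,5,2]),([3,2,5,3,2,5,3,2,5,3,2,5],[6,2,3,6,2,3,6,2,3,6,2,3]),([6,2,3,6,2,3,6,2,3,6,2,3],[3,2,5,3,2,5,3,2,5,3,2,5]),([2,5,5],[5,5,2]),([2,5,2,5,2],[4,6,2,6]),([4,6,2,6,2],[2,5,2,5]),([1,5,2,6],[5,2,6,1]),([1,6,2,5],[6,2,5,1]),([1,5,3,6],[5,3,6,1])]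

theorem pl_T5 : ∀ j < 7, planeOK N_T5 ps_T5 (plN 90 7 j) = true := allLt_iff.1 (by decide +kernel)

theorem rels_T5 : Rels (pms N_T5) R_T5 := rels_of_planes ok_T5 (by decide +kernel) (iv := iv_T5) pl_T5 (by decide +kernel)

theorem imp_T5_T1m_149c : impCert R_T5 [0,2,3,4,5,6] R_T1m [(0,0),(2,0),(3,0),(4,0),(5,0),(5,1),(8,0),(9,0),(10,0),(14,0),(15,0),(16,0),(17,0),(18,0)] = true := by decide +kernel
theorem imp_T5_T1m_149 : Imp.{u} R_T5 [0,2,3,4,5,6] R_T1m := Imp.of_cert imp_T5_T1m_149c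

theorem imp_T5_S_150c : impCert R_T5 [4,3,2,1,0] R_S [(4,0),(3,0),(2,0),(1,0),(0,0),(16,1),(15,1),(13,1),(10,1),(14,1),(12,1),(9,1),(11,1),(8,1),(7,1)] = true := by decide +kernel
theorem imp_T5_S_150 : Imp.{u} R_T5 [4,3,2,1,0] R_S := Imp.of_cert imp_T5_S_150c

theorem lb_151 : LB N_T1mf [[1],[2],[3]] [9,2,5] 24 :=
  (LB.of_chain (kp := 3) ok_T1mf (by decide +kernel) [(9,2,[[1],[2],[3]]),(2,1,[[1],[3]]),(5,1,[[3]])] (by decide +kernel)).cat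
    (rels_T1mf.inv inv_T1m) (by decide +kernel) (c := [[0],[2],[4],[0],[4],[4]]) (by decide +kernel)

theorem ui_T1m_152 : UI.{u} R_T1m [0,1,2,3,4,5] [[1],[2],[3]] 60 :=
  UI.of_UB ub_T1m rels_T1mf lb_151 (by decide +kernel) (by decide +kernel)

def hs_T5 : List (List ℕ × List (List ℕ) × ℕ) := [([0,2,3,4,5,6],[[4],[3],[2],[0]],30),([4,3,2,1,0],[[4],[0]],36),([4,3,2,1,0],[[4],[2],[0],[3,2,4,3]],9),([0,2,3,4,5,6],[[2],[3],[4]],60)]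
theorem hh_T5 : ∀ h ∈ hs_T5, UI.{u} R_T5 h.1 h.2.1 h.2.2 :=
  List.forall_mem_cons.2 ⟨ui_T1m.ren imp_T5_T1m_149 (by decide +kernel) (by decide +kernel),
    List.forall_mem_cons.2 ⟨ui_S_143.ren imp_T5_S_150 (by decide +kernel) (by decide +kernel),
    List.forall_mem_cons.2 ⟨ui_S_146.ren imp_T5_S_150 (by decide +kernel) (by decide +kernel),
    List.forall_mem_cons.2 ⟨ui_T1m_152.ren imp_T5_T1m_149 (by decide +kernel) (by decide +kernel),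
    List.forall_mem_nil _⟩⟩⟩⟩

theorem e_T5_0 : erun 90 4 N_T5 R_T5 iv_T5 7 hs_T5 (stK (ones 90) (mkK 90 (ones 90) [0,1,2,3,4,5,6]))
  [.orb [0,2,3,4,5,6] [[0],[2],[3],[4]] 30 0 0 3, .rel 46 0, .rel 48 0, .rel 11 0, .rel 12 0, .rel 13 0, .rel 48 0, .orb [4,3,2,1,0] [[0],[4]] 36 1 3 1, .orb [4,3,2,1,0] [[0],[2],[4],[3,2,4,3]] 9 70 1 1, .grow [6] 1 (bit 80), .rel 5 1, .rel 17 3, .rel 19 0, .rel 24 3, .rel 46 2, .grow [6] 1 (bit 5), .rel 5 1, .rel 17 3, .rel 19 0, .rel 24 3, .rel 46 2, .rel 48 2, .orb [0,2,3,4,5,6] [[2],[3],[4]] 60 8 3 2, .rel 32 0, .rel 33 1, .rel 46 3, .rel 46 1, .rel 47 3, .rel 47 1, .rel 48 2, .rel 18 0, .rel 18 3, .rel 18 6, .rel 20 10, .rel 20 1, .rel 20 4, .rel 20 7, .rel 9 0, .rel 11 0, .rel 12 0]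
  (bit 0) (mkK 90 (bit 0) [4,3,2,1,0]) = true := by decide +kernel
theorem r_T5_0 : Run.{u} 90 N_T5 R_T5 0 (bit 0) (mkK 90 (bit 0) [4,3,2,1,0]) (ones 90) (mkK 90 (ones 90) [0,1,2,3,4,5,6]) := (Run.of_cert ok_T5 (by decide +kernel) inv_T5 hh_T5 e_T5_0 0)

theorem ui_T5 : UI.{u} R_T5 [0,1,2,3,4,5,6] (sing [4,3,2,1,0]) 90 :=
  UI.of_run (kp := 4) (O := (ones 90)) ok_T5 (by decide +kernel) rels_T5 r_T5_0 (by decide +kernel)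

theorem ub_T5 : UB.{u} R_T5 [0,1,2,3,4,5,6] 12960 :=
  (ui_T5.mul (UI.ren (S := [4,3,2,1,0]) (W := []) ub_S imp_T5_S_150 (by decide +kernel) rfl) (by decide +kernel) (by decide +kernel)).le (by decide +kernel)

end H8.ON
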