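import Cfsg.Agent.H8.ON.F0
import Cfsg.Agent.H8.ON.Hom
import Cfsg.Agent.H8.XL37
set_option Elab.async false
set_option maxRecDepth 100000
set_option maxHeartbeats 0
namespace H8.ON
open H7
universe u

theorem der_P : Der.{u} R_Q2 R_P := Der.of_cert (c := [(0,0),(1,0),(2,0),(3,0),(4,0),(5,0),(8,0),(9,0),(10,0),(11,0),(12,0),(13,0),(14,0),(15,0),(16,0),(17,0),(18,0),(19,0),(20,0),(21,0),(22,0),(24,0),(31,8)]) (by decide +kernel)
theorem card_H : Nat.card (genW M_ON.gs (sing [0,1,2,3,4,5])) = 3753792 := by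
  have := top_ON.1
  have h := Subgroup.index_mul_card (genW M_ON.gs (sing [0,1,2,3,4,5]))
  rw [stab_ON.2, top_ON.2.1] at h
  omega
def ptL : List ℕ := [77,0,8,38,53,57,24,78,103,28,35,6,90,112,40,101,61,73,54,104,87,11,22,58,110,37,9,80,79,26,102,91,7,39,99,74,36,59,55,27,13,100,42,23,62,12,92,60,76,88,111,75,56,89,25,41,10]
def wL : List (List ℕ) := [[0,1,2,3,2,3],[0,2,1,3,4,3,2,1,0,3,2,1,0,3,4,3,5,4]]
theorem l37 : ∃ N : Subgroup (genW M_ON.gs (sing [0,1,2,3,4,5])), N.Normal ∧ N.index = 2 ∧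
    Nonempty (N ≃* Matrix.ProjectiveSpecialLinearGroup (Fin 3) (ZMod 7)) := by
  have := top_ON.1
  haveI : Fact (Nat.Prime 7) := ⟨by norm_num⟩
  have hs : Rels (fun _ => (-1 : ℤˣ)) R_P := fun r hr => by
    rw [wev_const]
    exact ((by decide +kernel : ∀ r ∈ R_P, Even r.length) r hr).neg_one_pow
  obtain ⟨φ, hφ⟩ := exists_hom ub_P (der_P _ _ (der_Q02 _ _ rels_ON_)) (rels_Pf.prod hs) card_H.ge
  simp only [wev_prod, wev_const] at hφ
  set s := (MonoidHom.snd _ _).comp φ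
  have hi : s.ker.index = 2 := index_ker_sign s (x := ⟨_, _⟩) (congrArg Prod.snd (hφ [0] (by simp)))
  refine ⟨s.ker, inferInstance, hi, ?_⟩
  letI : MulAction s.ker ℕ := MulAction.compHom ℕ (((MonoidHom.fst _ _).comp φ).comp s.ker.subtype)
  obtain ⟨e⟩ := L37.iso (F := ZMod 7) (ZMod.card 7)
  refine (iso_of_card' (pt := nthN ptL) L37.gen (by decide +kernel) (fun j hj => ?_) ?_).map fun e' => e'.trans e.symm
  · have h1 : ∀ j < 2, (∀ a ∈ nthW wL j, a ∈ [0,1,2,3,4,5]) ∧ Even (nthW wL j).length ∧ ∀ a < 57, ap 6 63 (L37.G0.get j) a < 57 ∧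
        tb (wapp N_Pf (nthW wL j) (bit (nthN ptL (ap 6 63 (L37.G0.get j) a)))) (nthN ptL a) = true := by decide +kernel
    obtain ⟨h2, h3, h4⟩ := h1 j hj
    refine ⟨⟨⟨_, _⟩, (congrArg Prod.snd (hφ _ h2)).trans h3.neg_one_pow⟩, fun a ha => ⟨(h4 a ha).1, ?_⟩⟩
    have h5 := (h4 a ha).2
    rw [tb_eq, testBit_wapp ok_Pf, testBit_bit, decide_eq_true_eq] at h5
    exact h5.trans (congrArg (fun t => t.1 (nthN ptL a)) (hφ _ h2)).symm
  · have h := Subgroup.index_mul_card s.ker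
    rw [hi, card_H] at h
    rw [L37.card]; omega

end H8.ON
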