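import Cfsg.Agent.H8.ON.D0
import Cfsg.Agent.H8.ON.N0_0
import Cfsg.Agent.H8.ON.N1_0
import Cfsg.Agent.H8.ON.N2_0
import Cfsg.Agent.H8.ON.N3_0
set_option Elab.async false
set_option maxRecDepth 100000
set_option maxHeartbeats 0
namespace H8.ON
open H7
universe u

noncomputable def n_ON_0 : Net := m_ON_0

noncomputable def n_ON_1 : Net := m_ON_1

noncomputable def n_ON_2 : Net := m_ON_2

noncomputable def n_ON_3 : Net := m_ON_3

noncomputable def n_ON_4 : Net := m_ON_4

noncomputable def n_ON_5 : Net := m_ON_5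

noncomputable def n_ON_6 : Net := m_ON_6

noncomputable def n_ON_7 : Net := Net.rev m_ON_6

noncomputable def NL_ON : List Net := [n_ON_0,n_ON_1,n_ON_2,n_ON_3,n_ON_4,n_ON_5,n_ON_6,n_ON_7]
theorem okL_ON : okL 122760 NL_ON = true := by decide +kernel
noncomputable def N_ON : ℕ → Net := nth NL_ON
theorem ok_ON : ∀ a, (N_ON a).ok 122760 = true := ok_nth okL_ON

def ps_ON : List (List ℕ × List ℕ) := [([0,0],[]),([1,1],[]),([2,2],[]),([3,3],[]),([4,4],[]),([5,5],[]),([7,6],[]),([6,7],[]),([0,1,0],[1,0,1]),([0,2],[2,0]),([0,3],[3,0]),([0,4],[4,0]),([0,5],[5,0]),([1,2,1],[2,1,2]),([1,3],[3,1]),([1,4],[4,1]),([1,5],[5,1]),([2,3,2,3,2,3,2,3],[3,2,3,2,3,2,3,2]),([2,4],[4,2]),([2,5],[5,2]),([3,4,3],[4,3,4]),([3,5],[5,3]),([4,5,4],[5,4,5]),([0,5],[6,6]),([0,5,3,2,3],[2,3,2,3,2]),([2,7,3,7,3],[7,3,7,3,2]),([3,7,2,7,2],[7,2,7,2,3]),([1,2,3,6,1,2,3,6,1,2],[7,3,2,1,7,3,2,1,7,3]),([6,1,2,6,2,1],[2,7,2,1,7]),([6,4,3,6,3,4],[3,7,3,4,7])]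

theorem pl_ON_0 : planeOK N_ON ps_ON (plN 122760 17 0) = true := by decide +kernel

theorem pl_ON_1 : planeOK N_ON ps_ON (plN 122760 17 1) = true := by decide +kernel

theorem pl_ON_2 : planeOK N_ON ps_ON (plN 122760 17 2) = true := by decide +kernel

theorem pl_ON_3 : planeOK N_ON ps_ON (plN 122760 17 3) = true := by decide +kernel

theorem pl_ON_4 : planeOK N_ON ps_ON (plN 122760 17 4) = true := by decide +kernel

theorem pl_ON_5 : planeOK N_ON ps_ON (plN 122760 17 5) = true := by decide +kernel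

theorem pl_ON_6 : planeOK N_ON ps_ON (plN 122760 17 6) = true := by decide +kernel

theorem pl_ON_7 : planeOK N_ON ps_ON (plN 122760 17 7) = true := by decide +kernel

theorem pl_ON_8 : planeOK N_ON ps_ON (plN 122760 17 8) = true := by decide +kernel

theorem pl_ON_9 : planeOK N_ON ps_ON (plN 122760 17 9) = true := by decide +kernel

theorem pl_ON_10 : planeOK N_ON ps_ON (plN 122760 17 10) = true := by decide +kernel

theorem pl_ON_11 : planeOK N_ON ps_ON (plN 122760 17 11) = true := by decide +kernel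

theorem pl_ON_12 : planeOK N_ON ps_ON (plN 122760 17 12) = true := by decide +kernel

theorem pl_ON_13 : planeOK N_ON ps_ON (plN 122760 17 13) = true := by decide +kernel

theorem pl_ON_14 : planeOK N_ON ps_ON (plN 122760 17 14) = true := by decide +kernel

theorem pl_ON_15 : planeOK N_ON ps_ON (plN 122760 17 15) = true := by decide +kernel

theorem pl_ON_16 : planeOK N_ON ps_ON (plN 122760 17 16) = true := by decide +kernel

theorem pl_ON : ∀ j < 17, planeOK N_ON ps_ON (plN 122760 17 j) = true := planes_step (planes_step (planes_step (planes_step (planes_step (planes_step (planes_step (planes_step (planes_step (planes_step (planes_step (planes_step (planes_step (planes_step (planes_step (planes_step (planes_step (planes_zero _ _ _ _) pl_ON_0) pl_ON_1) pl_ON_2) pl_ON_3) pl_ON_4) pl_ON_5) pl_ON_6) pl_ON_7) pl_ON_8) pl_ON_9) pl_ON_10) pl_ON_11) pl_ON_12) pl_ON_13) pl_ON_14) pl_ON_15) pl_ON_16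

theorem rels_ON : Rels (pms N_ON) R_Q0 := rels_of_planes ok_ON (by decide +kernel) (iv := iv_Q0) pl_ON (by decide +kernel)

theorem der_Q02 : Der.{u} R_Q0 R_Q2 := der_Q1.trans der_Q2
theorem rels_ON2 : Rels (pms N_ON) R_Q2 := der_Q02 _ _ rels_ON

end H8.ON
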